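import Mathlib
import Cfsg.Agent.Lib.Helper13.EA
import Cfsg.Agent.Lib.Helper18.SL2b

set_option autoImplicit false
open Cfsg

/-! Recognising `SL(2, p)` acting on a plane. -/

namespace Cfsg.Agent.Lib.Helper13

open Subgroup

theorem exists_matrix_rep_add {M : Type*} [AddCommGroup M] [Finite M] {p : ℕ} [Fact p.Prime] [Module (ZMod p) M] {n : ℕ}
    (hcard : Nat.card M = p ^ n) :
    ∃ μ : AddMonoid.End M →* Matrix (Fin n) (Fin n) (ZMod p), Function.Injective μ := by
  have hfin : Module.finrank (ZMod p) M = n := by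
    have h1 := Module.natCard_eq_pow_finrank (K := ZMod p) (V := M)
    rw [hcard, Nat.card_zmod] at h1
    exact (Nat.pow_right_injective (Fact.out : p.Prime).two_le h1).symm
  let b := Module.finBasisOfFinrankEq (ZMod p) M hfin
  refine ⟨{ toFun := fun e => LinearMap.toMatrix b b (AddMonoidHom.toZModLinearMap p e)
            map_one' := ?_
            map_mul' := ?_ }, ?_⟩
  · rw [← LinearMap.toMatrix_id b]
    rfl
  · intro e f
    rw [← LinearMap.toMatrix_comp]
    rfl
  · intro e f h
    have h1 := (LinearMap.toMatrix b b).injective h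
    exact AddMonoidHom.toZModLinearMap_injective p h1

theorem exists_matrix_rep {Wt : Type*} [CommGroup Wt] [Finite Wt] {p : ℕ} [Fact p.Prime] {n : ℕ}
    (hexp : ∀ w : Wt, w ^ p = 1) (hcard : Nat.card Wt = p ^ n) :
    ∃ μ : MulAut Wt →* Matrix (Fin n) (Fin n) (ZMod p), Function.Injective μ := by
  have hfin : Finite (Additive Wt) := inferInstanceAs (Finite Wt)
  obtain ⟨μ, hμ⟩ := @exists_matrix_rep_add (Additive Wt) _ hfin p _ (AddCommGroup.zmodModule (n := p) (fun x => by
    exact congrArg Additive.ofMul (hexp x.toMul))) n hcard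
  let ν : MulAut Wt →* AddMonoid.End (Additive Wt) :=
    { toFun := fun e => MonoidHom.toAdditive e.toMonoidHom
      map_one' := rfl
      map_mul' := fun _ _ => rfl }
  refine ⟨μ.comp ν, hμ.comp ?_⟩
  intro e f h
  exact MulEquiv.toMonoidHom_injective (MonoidHom.toAdditive.injective h)

variable {G : Type*} [Group G] {p : ℕ}

open scoped IsMulCommutative in
/-- a group acting on an elementary abelian group of order `p ^ n`: the matrix representation. -/
theorem exists_rep_of_le_normalizer [Finite G] [Fact p.Prime] {W L : Subgroup G} {n : ℕ}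
    (hW : IsElementaryAbelian p W) (hcard : Nat.card W = p ^ n) (hLW : L ≤ normalizer (W : Set G)) :
    ∃ ρ : L →* Matrix (Fin n) (Fin n) (ZMod p), ∀ g : L, ρ g = 1 ↔ (g : G) ∈ centralizer (W : Set G) := by
  have : IsMulCommutative W := hW.1
  obtain ⟨μ, hμ⟩ := exists_matrix_rep (Wt := ↥W) (p := p) (n := n)
    (fun w => Subtype.ext (hW.2 w.1 w.2)) hcard
  refine ⟨μ.comp ((normalizerMonoidHom W).comp (Subgroup.inclusion hLW)), fun g => ?_⟩
  have h1 : (Subgroup.inclusion hLW g) ∈ (normalizerMonoidHom W).ker ↔ (g : G) ∈ centralizer (W : Set G) := by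
    rw [normalizerMonoidHom_ker, mem_subgroupOf]
    rfl
  rw [← h1, MonoidHom.mem_ker]
  constructor
  · intro h
    apply hμ
    rw [map_one]
    exact h
  · intro h
    change μ (normalizerMonoidHom W (Subgroup.inclusion hLW g)) = 1
    rw [h, map_one]

/-- two distinct subgroups of order `p` acting faithfully on a plane generate `SL(2, p)`. -/
theorem nonempty_mulEquiv_SL2 [Finite G] [Fact p.Prime] {W A A' L : Subgroup G}
    (hW : IsElementaryAbelian p W) (hcard : Nat.card W = p ^ 2) (hLW : L ≤ normalizer (W : Set G))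
    (hf : L ⊓ centralizer (W : Set G) = ⊥) (hA : Nat.card A = p) (hA' : Nat.card A' = p) (hne : A ≠ A')
    (hAL : A ≤ L) (hA'L : A' ≤ L) (hgen : L ≤ A ⊔ A') :
    Nonempty (↥L ≃* Matrix.SpecialLinearGroup (Fin 2) (ZMod p)) := by
  obtain ⟨ρ₀, hρ₀⟩ := exists_rep_of_le_normalizer hW hcard hLW
  -- determinant one
  let d : L →* ZMod p := Matrix.detMonoidHom.comp ρ₀
  have hd1 : ∀ g : L, g ^ p = 1 → d g = 1 := by
    intro g hg
    have h1 : d g ^ p = 1 := by rw [← map_pow, hg, map_one]
    rwa [ZMod.pow_card] at h1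
  have hpow : ∀ B : Subgroup G, Nat.card B = p → ∀ g : L, (g : G) ∈ B → g ^ p = 1 := by
    intro B hB g hg
    apply Subtype.ext
    have h1 : (⟨(g : G), hg⟩ : B) ^ Nat.card B = 1 := pow_card_eq_one'
    rw [hB] at h1
    exact congrArg (Subtype.val : B → G) h1
  have hker : d.ker = ⊤ := by
    have h0 : (⊤ : Subgroup L) ≤ (A ⊔ A').subgroupOf L := fun g _ => hgen g.2
    rw [eq_top_iff]
    refine h0.trans ?_
    rw [subgroupOf_sup hAL hA'L]
    refine sup_le ?_ ?_
    · intro g hg
      exact hd1 g (hpow A hA g hg)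
    · intro g hg
      exact hd1 g (hpow A' hA' g hg)
  have hdet : ∀ g : L, (ρ₀ g).det = 1 := fun g => by
    have : g ∈ d.ker := hker ▸ mem_top g
    exact this
  let ρ : L →* Matrix.SpecialLinearGroup (Fin 2) (ZMod p) :=
    { toFun := fun g => ⟨ρ₀ g, hdet g⟩
      map_one' := Subtype.ext (map_one ρ₀)
      map_mul' := fun g h => Subtype.ext (map_mul ρ₀ g h) }
  have hinj : Function.Injective ρ := by
    rw [injective_iff_map_eq_one]
    intro g hg
    have h1 : ρ₀ g = 1 := congrArg Subtype.val hg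
    have h2 : (g : G) ∈ L ⊓ centralizer (W : Set G) := ⟨g.2, (hρ₀ g).mp h1⟩
    rw [hf, mem_bot] at h2
    exact Subtype.ext h2
  -- the images are Sylow subgroups
  have hsyl : ∀ B : Subgroup G, B ≤ L → Nat.card B = p →
      ∃ P : Sylow p (Matrix.SpecialLinearGroup (Fin 2) (ZMod p)), (P : Subgroup _) = (B.subgroupOf L).map ρ := by
    intro B hBL hB
    have hc : Nat.card ((B.subgroupOf L).map ρ) = p := by
      rw [card_map_of_injective hinj, Nat.card_congr (subgroupOfEquivOfLe hBL).toEquiv, hB]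
    have hp : IsPGroup p ((B.subgroupOf L).map ρ) := IsPGroup.of_card (n := 1) (by rw [hc, pow_one])
    obtain ⟨P, hP⟩ := hp.exists_le_sylow
    refine ⟨P, (eq_of_le_of_card_ge hP ?_).symm⟩
    rw [hc, Cfsg.Agent.Lib.Helper18.card_sylow_SL2 p P, ZMod.card]
  obtain ⟨P, hP⟩ := hsyl A hAL hA
  obtain ⟨P', hP'⟩ := hsyl A' hA'L hA'
  have hPP' : P ≠ P' := by
    intro h
    apply hne
    have h1 : (A.subgroupOf L).map ρ = (A'.subgroupOf L).map ρ := by rw [← hP, ← hP', h]
    have h2 := map_injective hinj h1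
    have h3 := congrArg (Subgroup.map L.subtype) h2
    rwa [map_subgroupOf_eq_of_le hAL, map_subgroupOf_eq_of_le hA'L] at h3
  have htop := Cfsg.Agent.Lib.Helper18.sylow_SL2_sup_eq_top p P P' hPP'
  have hsurj : Function.Surjective ρ := by
    rw [← MonoidHom.range_eq_top, eq_top_iff, ← htop, hP, hP']
    exact sup_le (map_le_range _ _) (map_le_range _ _)
  exact ⟨MulEquiv.ofBijective ρ ⟨hinj, hsurj⟩⟩

end Cfsg.Agent.Lib.Helper13
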