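import Mathlib

set_option autoImplicit false
open scoped commutatorElement

namespace Cfsg.Agent.Lib.Helper13.AbIdx

variable {P : Type*} [Group P] [Finite P]

theorem eq_top_of {p : ℕ} (hp : p.Prime) (N : Subgroup P) (hN : N.index = p) {x : P} (hx : x ∉ N)
    (K : Subgroup P) (hNK : N ≤ K) (hxK : x ∈ K) : K = ⊤ := by
  have h1 : K.index ∣ p := hN ▸ Subgroup.index_dvd_of_le hNK
  rcases (Nat.dvd_prime hp).1 h1 with h | h
  · exact Subgroup.index_eq_one.1 h
  · exfalso
    apply hx
    have h2 : N = K := by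
      apply Subgroup.eq_of_le_of_card_ge hNK
      have e1 := Subgroup.card_mul_index N
      have e2 := Subgroup.card_mul_index K
      rw [hN] at e1
      rw [h] at e2
      have : Nat.card K * p = Nat.card N * p := by rw [e1, e2]
      exact le_of_eq (Nat.eq_of_mul_eq_mul_right hp.pos this)
    rw [h2]; exact hxK

/-- the map `n ↦ [x, n]` into the abelianization of `N` -/
noncomputable def theta (N : Subgroup P) [N.Normal] (x : P) : N →* Abelianization N :=
  (Abelianization.of.comp (MulAut.conjNormal x).toMonoidHom) / Abelianization.of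

theorem theta_apply (N : Subgroup P) [N.Normal] (x : P) (n : N) :
    theta N x n = Abelianization.of (MulAut.conjNormal x n * n⁻¹) := by
  simp [theta, div_eq_mul_inv]

theorem of_eq_one_iff (N : Subgroup P) (n : N) :
    Abelianization.of n = 1 ↔ (n : P) ∈ (commutator N).map N.subtype := by
  have h1 : Abelianization.of n = 1 ↔ n ∈ commutator N := QuotientGroup.eq_one_iff n
  rw [h1]
  constructor
  · intro h; exact ⟨n, h, rfl⟩
  · rintro ⟨m, hm, hmn⟩
    have : m = n := Subtype.ext hmn
    rwa [← this]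

theorem mem_ker_theta (N : Subgroup P) [N.Normal] (x : P) (n : N) :
    n ∈ (theta N x).ker ↔ x * n * x⁻¹ * (n : P)⁻¹ ∈ (commutator N).map N.subtype := by
  rw [MonoidHom.mem_ker, theta_apply, of_eq_one_iff]
  simp [MulAut.conjNormal_apply]

/-- the candidate for the derived subgroup of `P` -/
noncomputable def JJ (N : Subgroup P) [N.Normal] (x : P) : Subgroup P :=
  ((theta N x).range.comap Abelianization.of).map N.subtype

theorem mem_JJ (N : Subgroup P) [N.Normal] (x : P) (j : P) :
    j ∈ JJ N x ↔ ∃ n₀ : N, ∃ c ∈ (commutator N).map N.subtype, j = x * n₀ * x⁻¹ * (n₀ : P)⁻¹ * c := by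
  constructor
  · rintro ⟨n, hn, rfl⟩
    obtain ⟨n₀, hn₀⟩ := hn
    rw [theta_apply] at hn₀
    refine ⟨n₀, ((MulAut.conjNormal x n₀ * n₀⁻¹)⁻¹ * n : N), ?_, ?_⟩
    · rw [← of_eq_one_iff, map_mul, map_inv, hn₀, inv_mul_cancel]
    · simp [MulAut.conjNormal_apply, mul_assoc]
  · rintro ⟨n₀, c, ⟨c', hc', rfl⟩, rfl⟩
    refine ⟨MulAut.conjNormal x n₀ * n₀⁻¹ * c', ?_, ?_⟩
    · refine ⟨n₀, ?_⟩
      rw [theta_apply, map_mul Abelianization.of _ c']
      have : Abelianization.of c' = 1 := (QuotientGroup.eq_one_iff c').2 hc'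
      rw [this, mul_one]
    · simp [MulAut.conjNormal_apply]

theorem comm_le_JJ (N : Subgroup P) [N.Normal] (x : P) : (commutator N).map N.subtype ≤ JJ N x := by
  intro c hc
  rw [mem_JJ]
  exact ⟨1, c, hc, by simp⟩

theorem comm_mem_JJ (N : Subgroup P) [N.Normal] (x : P) {n : P} (hn : n ∈ N) :
    x * n * x⁻¹ * n⁻¹ ∈ JJ N x := by
  rw [mem_JJ]
  exact ⟨⟨n, hn⟩, 1, one_mem _, by simp⟩

theorem JJ_le (N : Subgroup P) [N.Normal] (x : P) : JJ N x ≤ N := Subgroup.map_subtype_le _

theorem JJ_le_commutator (N : Subgroup P) [N.Normal] (x : P) : JJ N x ≤ commutator P := by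
  intro j hj
  obtain ⟨n₀, c, hc, rfl⟩ := (mem_JJ N x j).1 hj
  refine Subgroup.mul_mem _ ?_ ?_
  · have : x * n₀ * x⁻¹ * (n₀ : P)⁻¹ = ⁅x, (n₀ : P)⁆ := by simp [commutatorElement_def]
    rw [this]
    exact Subgroup.commutator_mem_commutator (Subgroup.mem_top _) (Subgroup.mem_top _)
  · rw [Subgroup.map_subtype_commutator] at hc
    exact Subgroup.commutator_mono le_top le_top hc

theorem JJ_normal {p : ℕ} (hp : p.Prime) (N : Subgroup P) [hNn : N.Normal] (hN : N.index = p) {x : P}
    (hx : x ∉ N) : (JJ N x).Normal := by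
  rw [← Subgroup.normalizer_eq_top_iff]
  apply eq_top_of hp N hN hx
  · intro m hm
    have key : ∀ m ∈ N, ∀ j ∈ JJ N x, m * j * m⁻¹ ∈ JJ N x := by
      intro m hm j hj
      have e : m * j * m⁻¹ = ⁅m, j⁆ * j := by simp [commutatorElement_def]
      rw [e]
      refine Subgroup.mul_mem _ (comm_le_JJ N x ?_) hj
      rw [Subgroup.map_subtype_commutator]
      exact Subgroup.commutator_mem_commutator hm (JJ_le N x hj)
    rw [Subgroup.mem_normalizer_iff]
    intro j
    refine ⟨key m hm j, fun h => ?_⟩
    have := key m⁻¹ (N.inv_mem hm) _ h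
    simpa [mul_assoc] using this
  · rw [Subgroup.mem_normalizer_iff]
    intro j
    constructor
    · intro hj
      have e : x * j * x⁻¹ = (x * j * x⁻¹ * j⁻¹) * j := by group
      rw [e]
      exact Subgroup.mul_mem _ (comm_mem_JJ N x (JJ_le N x hj)) hj
    · intro hj
      have hjN : j ∈ N := by
        have h1 := hNn.conj_mem _ (JJ_le N x hj) x⁻¹
        simpa [mul_assoc] using h1
      have e : j = (x * j * x⁻¹ * j⁻¹)⁻¹ * (x * j * x⁻¹) := by group
      rw [e]
      exact Subgroup.mul_mem _ (Subgroup.inv_mem _ (comm_mem_JJ N x hjN)) hj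

theorem commutator_le_JJ {p : ℕ} (hp : p.Prime) (N : Subgroup P) [hNn : N.Normal] (hN : N.index = p)
    {x : P} (hx : x ∉ N) : commutator P ≤ JJ N x := by
  have hJn := JJ_normal hp N hN hx
  have hcomm : ∀ g h : P, QuotientGroup.mk' (JJ N x) g * QuotientGroup.mk' (JJ N x) h =
      QuotientGroup.mk' (JJ N x) h * QuotientGroup.mk' (JJ N x) g ↔ ⁅g, h⁆ ∈ JJ N x := by
    intro g h
    rw [← commutatorElement_eq_one_iff_mul_comm, ← map_commutatorElement, QuotientGroup.mk'_apply,
      QuotientGroup.eq_one_iff]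
  have hxn : ∀ n ∈ N, ⁅x, n⁆ ∈ JJ N x := by
    intro n hn
    have : ⁅x, n⁆ = x * n * x⁻¹ * n⁻¹ := by simp [commutatorElement_def]
    rw [this]; exact comm_mem_JJ N x hn
  have hnn : ∀ n ∈ N, ∀ m ∈ N, ⁅n, m⁆ ∈ JJ N x := by
    intro n hn m hm
    apply comm_le_JJ N x
    rw [Subgroup.map_subtype_commutator]
    exact Subgroup.commutator_mem_commutator hn hm
  have hcen : (Subgroup.center (P ⧸ JJ N x)).comap (QuotientGroup.mk' (JJ N x)) = ⊤ := by
    apply eq_top_of hp N hN hx
    · intro n hn
      rw [Subgroup.mem_comap, Subgroup.mem_center_iff]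
      have h1 : (Subgroup.centralizer {QuotientGroup.mk' (JJ N x) n}).comap
          (QuotientGroup.mk' (JJ N x)) = ⊤ := by
        apply eq_top_of hp N hN hx
        · intro m hm
          rw [Subgroup.mem_comap, Subgroup.mem_centralizer_singleton_iff]
          exact (hcomm m n).2 (hnn m hm n hn)
        · rw [Subgroup.mem_comap, Subgroup.mem_centralizer_singleton_iff]
          exact (hcomm x n).2 (hxn n hn)
      intro g
      obtain ⟨g, rfl⟩ := QuotientGroup.mk'_surjective _ g
      have h2 : g ∈ (Subgroup.centralizer {QuotientGroup.mk' (JJ N x) n}).comap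
          (QuotientGroup.mk' (JJ N x)) := h1 ▸ Subgroup.mem_top g
      rw [Subgroup.mem_comap, Subgroup.mem_centralizer_singleton_iff] at h2
      exact h2
    · rw [Subgroup.mem_comap, Subgroup.mem_center_iff]
      have h1 : (Subgroup.centralizer {QuotientGroup.mk' (JJ N x) x}).comap
          (QuotientGroup.mk' (JJ N x)) = ⊤ := by
        apply eq_top_of hp N hN hx
        · intro m hm
          rw [Subgroup.mem_comap, Subgroup.mem_centralizer_singleton_iff]
          exact ((hcomm x m).2 (hxn m hm)).symm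
        · rw [Subgroup.mem_comap, Subgroup.mem_centralizer_singleton_iff]
      intro g
      obtain ⟨g, rfl⟩ := QuotientGroup.mk'_surjective _ g
      have h2 : g ∈ (Subgroup.centralizer {QuotientGroup.mk' (JJ N x) x}).comap
          (QuotientGroup.mk' (JJ N x)) := h1 ▸ Subgroup.mem_top g
      rw [Subgroup.mem_comap, Subgroup.mem_centralizer_singleton_iff] at h2
      exact h2
  rw [commutator_def, Subgroup.commutator_le]
  intro g _ h _
  rw [← hcomm]
  have h3 : g ∈ (Subgroup.center (P ⧸ JJ N x)).comap (QuotientGroup.mk' (JJ N x)) :=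
    hcen ▸ Subgroup.mem_top g
  rw [Subgroup.mem_comap, Subgroup.mem_center_iff] at h3
  exact (h3 _).symm

theorem key {p : ℕ} (hp : p.Prime) (N : Subgroup P) [hNn : N.Normal] (hN : N.index = p)
    {x : P} (hx : x ∉ N) :
    (commutator P).index * Nat.card (commutator N) =
      p * Nat.card {n : N // x * n * x⁻¹ * (n : P)⁻¹ ∈ (commutator N).map N.subtype} := by
  have hJ : commutator P = JJ N x := le_antisymm (commutator_le_JJ hp N hN hx) (JJ_le_commutator N x)
  have h1 : (JJ N x).index = (theta N x).range.index * p := by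
    unfold JJ
    have hs : Function.Surjective (Abelianization.of : N →* Abelianization N) :=
      QuotientGroup.mk'_surjective _
    rw [Subgroup.index_map_subtype, hN, Subgroup.index_comap_of_surjective _ hs]
  have h2 : Nat.card {n : N // x * n * x⁻¹ * (n : P)⁻¹ ∈ (commutator N).map N.subtype} =
      Nat.card (theta N x).ker := by
    apply Nat.card_congr
    exact Equiv.subtypeEquivRight (fun n => (mem_ker_theta N x n).symm)
  have e1 := Subgroup.card_mul_index (theta N x).range
  have e2 := Subgroup.card_mul_index (theta N x).ker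
  have e3 : Nat.card N = Nat.card (Abelianization N) * Nat.card (commutator N) :=
    Subgroup.card_eq_card_quotient_mul_card_subgroup (commutator N)
  rw [Subgroup.index_ker] at e2
  rw [hJ, h1, h2]
  have hpos : 0 < Nat.card (theta N x).range := Nat.card_pos
  have e4 : Nat.card (theta N x).range * ((theta N x).range.index * Nat.card (commutator N)) =
      Nat.card (theta N x).range * Nat.card (theta N x).ker := by
    rw [← mul_assoc, e1, ← e3, ← e2, mul_comm]
  have e5 := Nat.eq_of_mul_eq_mul_left hpos e4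
  calc (theta N x).range.index * p * Nat.card (commutator N)
      = p * ((theta N x).range.index * Nat.card (commutator N)) := by ring
    _ = p * Nat.card (theta N x).ker := by rw [e5]

end Cfsg.Agent.Lib.Helper13.AbIdx
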