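import Mathlib
import Cfsg.Agent.Lib.Helper13.CardSup
import Cfsg.Agent.Lib.Helper13.PAction
import Cfsg.Agent.S0030

set_option autoImplicit false

/-! Fixed points of elements of a `p`-group acting on a minimal non-centralized `p'`-group. -/

namespace Cfsg.Agent.Lib.Helper13

open Subgroup
open scoped commutatorElement

variable {G : Type*} [Group G]

/-- fixed points of `a` in `V` -/
def fx (V : Subgroup G) (a : G) : Subgroup G := V ⊓ centralizer ({a} : Set G)

theorem mem_fx {V : Subgroup G} {a v : G} : v ∈ fx V a ↔ v ∈ V ∧ a * v * a⁻¹ = v := by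
  rw [fx, mem_inf, mem_centralizer_singleton_iff]
  constructor
  · rintro ⟨h1, h2⟩
    exact ⟨h1, by rw [← h2]; group⟩
  · rintro ⟨h1, h2⟩
    refine ⟨h1, ?_⟩
    calc v * a = (a * v * a⁻¹) * a := by rw [h2]
      _ = a * v := by group

theorem fx_le (V : Subgroup G) (a : G) : fx V a ≤ V := inf_le_left

/-- the action of `P` on `V` -/
def psi {P V : Subgroup G} (hPV : P ≤ normalizer (V : Set G)) : P →* MulAut V :=
  V.normalizerMonoidHom.comp (inclusion hPV)

theorem psi_apply {P V : Subgroup G} (hPV : P ≤ normalizer (V : Set G)) (a : P) (v : V) :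
    ((psi hPV a v : V) : G) = a * v * (a : G)⁻¹ := rfl

theorem fx_congr {P V : Subgroup G} (hPV : P ≤ normalizer (V : Set G)) {a b : P} (h : psi hPV a = psi hPV b) :
    fx V (a : G) = fx V (b : G) := by
  ext v
  rw [mem_fx, mem_fx]
  refine and_congr_right fun hv => ?_
  have h1 := congrArg Subtype.val (DFunLike.congr_fun h ⟨v, hv⟩)
  rw [psi_apply, psi_apply] at h1
  rw [show (a : G) * v * (a : G)⁻¹ = (b : G) * v * (b : G)⁻¹ from h1]

theorem psi_eq_one_iff {P V : Subgroup G} (hPV : P ≤ normalizer (V : Set G)) (a : P) :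
    psi hPV a = 1 ↔ (a : G) ∈ centralizer (V : Set G) := by
  rw [mem_centralizer_iff]
  constructor
  · intro h v hv
    have h1 := congrArg Subtype.val (DFunLike.congr_fun h ⟨v, hv⟩)
    rw [psi_apply] at h1
    have h2 : (a : G) * v * (a : G)⁻¹ = v := h1
    calc v * a = ((a : G) * v * (a : G)⁻¹) * a := by rw [h2]
      _ = a * v := by group
  · intro h
    ext v
    rw [psi_apply, ← h v v.2]
    simp

theorem conj_mem_fx {V : Subgroup G} {h a v : G} (hh : h ∈ normalizer (V : Set G)) (hv : v ∈ fx V a) :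
    h * v * h⁻¹ ∈ fx V (h * a * h⁻¹) := by
  rw [mem_fx] at hv ⊢
  refine ⟨(mem_normalizer_iff.mp hh v).mp hv.1, ?_⟩
  calc h * a * h⁻¹ * (h * v * h⁻¹) * (h * a * h⁻¹)⁻¹ = h * (a * v * a⁻¹) * h⁻¹ := by group
    _ = h * v * h⁻¹ := by rw [hv.2]

theorem fx_conj {V : Subgroup G} {h : G} (a : G) (hh : h ∈ normalizer (V : Set G)) :
    fx V (h * a * h⁻¹) = (fx V a).map (MulAut.conj h).toMonoidHom := by
  ext v
  constructor
  · intro hv
    have h1 := conj_mem_fx (inv_mem hh) hv
    have h2 : h⁻¹ * (h * a * h⁻¹) * h⁻¹⁻¹ = a := by group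
    rw [h2] at h1
    exact ⟨_, h1, by simp [mul_assoc]⟩
  · rintro ⟨w, hw, rfl⟩
    exact conj_mem_fx hh hw

theorem card_fx_conj {V : Subgroup G} {h : G} (a : G) (hh : h ∈ normalizer (V : Set G)) :
    Nat.card (fx V (h * a * h⁻¹)) = Nat.card (fx V a) := by
  rw [fx_conj a hh]
  exact Subgroup.card_map_of_injective (MulAut.conj h).injective

theorem mem_normalizer_fx {P V : Subgroup G} (hPV : P ≤ normalizer (V : Set G)) {h a : P}
    (hc : Commute (psi hPV h) (psi hPV a)) : (h : G) ∈ normalizer (fx V (a : G) : Set G) := by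
  have key : ∀ k : P, Commute (psi hPV k) (psi hPV a) → ∀ v ∈ fx V (a : G), (k : G) * v * (k : G)⁻¹ ∈ fx V (a : G) := by
    intro k hk v hv
    have h1 := conj_mem_fx (hPV k.2) hv
    have h2 : fx V ((k * a * k⁻¹ : P) : G) = fx V (a : G) := by
      apply fx_congr hPV
      rw [map_mul, map_mul, map_inv, hk.eq]
      group
    rw [← h2]
    exact h1
  rw [mem_normalizer_iff]
  intro x
  refine ⟨key h hc x, fun hx => ?_⟩
  have h3 := key h⁻¹ (by rw [map_inv]; exact hc.inv_left) _ hx
  simpa [mul_assoc] using h3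

theorem mem_of_pow_mem_of_coprime {z : G} {n m : ℕ} (B : Subgroup G) (hz : z ^ m = 1) (hc : Nat.Coprime n m)
    (h : z ^ n ∈ B) : z ∈ B := by
  obtain ⟨j, hj⟩ := exists_pow_eq_self_of_coprime (x := z) (n := n)
    (Nat.Coprime.coprime_dvd_right (orderOf_dvd_of_pow_eq_one hz) hc)
  rw [← hj]
  exact B.pow_mem h j

end Cfsg.Agent.Lib.Helper13
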