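import Mathlib
import Cfsg.Agent.Lib.Helper13.BSVar1

set_option autoImplicit false

/-! The counting lemma for a minimal non-centralized `p'`-group. -/

namespace Cfsg.Agent.Lib.Helper13

open Subgroup
open scoped commutatorElement

variable {G : Type*} [Group G]

theorem mem_fx' {V : Subgroup G} {a v : G} : v ∈ fx V a ↔ v ∈ V ∧ a ∈ centralizer ({v} : Set G) := by
  rw [fx, mem_inf, mem_centralizer_singleton_iff, mem_centralizer_singleton_iff]
  exact and_congr_right fun _ => eq_comm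

theorem normalizer_inf_le_normalizer_sup (L M : Subgroup G) :
    normalizer (L : Set G) ⊓ normalizer (M : Set G) ≤ normalizer ((L ⊔ M : Subgroup G) : Set G) := by
  intro g hg
  rw [Subgroup.mem_normalizer_iff_map_conj_eq, Subgroup.map_sup,
    Subgroup.mem_normalizer_iff_map_conj_eq.mp hg.1, Subgroup.mem_normalizer_iff_map_conj_eq.mp hg.2]

/-- a minimal non-centralized configuration -/
structure BSCfg (p : ℕ) (P V : Subgroup G) : Prop where
  hP : IsPGroup p P
  hPV : P ≤ normalizer (V : Set G)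
  hcop : (Nat.card V).Coprime p
  hnc : ¬ V ≤ centralizer (P : Set G)
  hmin : ∀ U : Subgroup G, U ≤ V → U ≠ V → P ≤ normalizer (U : Set G) → U ≤ centralizer (P : Set G)
  hder : ⁅V, V⁆ ≤ centralizer (P : Set G)

variable [Finite G] {p : ℕ} [Fact p.Prime] {P V : Subgroup G}

omit [Finite G] [Fact p.Prime] in
theorem BSCfg.fx_le_centralizer (h : BSCfg p P V) (a : P) (hc : ∀ k : P, Commute (psi h.hPV k) (psi h.hPV a))
    (h1 : psi h.hPV a ≠ 1) : fx V (a : G) ≤ centralizer (P : Set G) := by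
  apply h.hmin _ (fx_le V a)
  · intro he
    apply h1
    rw [psi_eq_one_iff, mem_centralizer_iff]
    intro v hv
    have h2 : v ∈ fx V (a : G) := by rw [he]; exact hv
    exact mem_centralizer_singleton_iff.mp h2.2
  · intro k hk
    exact mem_normalizer_fx h.hPV (hc ⟨k, hk⟩)

omit [Finite G] [Fact p.Prime] in
theorem BSCfg.inf_le_fx (_h : BSCfg p P V) (a : P) : V ⊓ centralizer (P : Set G) ≤ fx V (a : G) := by
  intro v hv
  exact ⟨hv.1, mem_centralizer_singleton_iff.mpr (mem_centralizer_iff.mp hv.2 a a.2).symm⟩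

omit [Finite G] [Fact p.Prime] in
theorem BSCfg.le_normalizer (h : BSCfg p P V) {E : Subgroup G} (hE : V ⊓ centralizer (P : Set G) ≤ E) (hEV : E ≤ V) :
    V ≤ normalizer (E : Set G) := by
  rw [Subgroup.le_normalizer_iff_commutator_le_left]
  refine le_trans ?_ hE
  refine le_inf ?_ ((Subgroup.commutator_mono hEV le_rfl).trans h.hder)
  exact (Subgroup.commutator_mono hEV le_rfl).trans (Subgroup.commutator_le_self V)

theorem BSCfg.card_fx_pow_le (h : BSCfg p P V) (hp2 : p ≠ 2) (g y z : P) (hzg : y * g * y⁻¹ = z * g)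
    (hz : ∀ k : P, Commute (psi h.hPV k) (psi h.hPV z)) (hz1 : psi h.hPV z ≠ 1) :
    Nat.card (fx V (g : G)) ^ 3 ≤ Nat.card V * Nat.card (V ⊓ centralizer (P : Set G) : Subgroup G) ^ 2 := by
  have hKL := h.fx_le_centralizer z hz hz1
  have pz : ∀ k : P, psi h.hPV (k * z * k⁻¹) = psi h.hPV z := by
    intro k
    rw [map_mul, map_mul, map_inv, (hz k).eq, mul_inv_cancel_right]
  have e2 : y * (z * g) * y⁻¹ = (y * z * y⁻¹) * (z * g) := by
    calc y * (z * g) * y⁻¹ = (y * z * y⁻¹) * (y * g * y⁻¹) := by group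
      _ = (y * z * y⁻¹) * (z * g) := by rw [hzg]
  have p2 : psi h.hPV (y * (z * g) * y⁻¹) = psi h.hPV (z * (z * g)) := by
    rw [e2, map_mul, pz, ← map_mul]
  -- the three subgroups
  have hE₁ : fx V ((z * g : P) : G) = fx V ((y : G) * g * (y : G)⁻¹) := by
    rw [← hzg]; rfl
  have hE₂ : fx V ((z * (z * g) : P) : G) = fx V ((y : G) * ((z * g : P) : G) * (y : G)⁻¹) :=
    (fx_congr h.hPV p2).symm
  have c1 : Nat.card (fx V ((z * g : P) : G)) = Nat.card (fx V (g : G)) := by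
    rw [hE₁]; exact card_fx_conj _ (h.hPV y.2)
  have c2 : Nat.card (fx V ((z * (z * g) : P) : G)) = Nat.card (fx V (g : G)) := by
    rw [hE₂, card_fx_conj _ (h.hPV y.2), c1]
  have i01 : fx V (g : G) ⊓ fx V ((z * g : P) : G) ≤ V ⊓ centralizer (P : Set G) := by
    intro v hv
    refine ⟨hv.1.1, hKL ?_⟩
    rw [mem_fx']
    refine ⟨hv.1.1, ?_⟩
    have h1 := (mem_fx'.mp hv.1).2
    have h2 := (mem_fx'.mp hv.2).2
    have h3 : (z : G) = ((z * g : P) : G) * (g : G)⁻¹ := by simp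
    rw [h3]
    exact mul_mem h2 (inv_mem h1)
  have i02 : fx V (g : G) ⊓ fx V ((z * (z * g) : P) : G) ≤ V ⊓ centralizer (P : Set G) := by
    intro v hv
    refine ⟨hv.1.1, hKL ?_⟩
    rw [mem_fx']
    refine ⟨hv.1.1, ?_⟩
    have h1 := (mem_fx'.mp hv.1).2
    have h2 := (mem_fx'.mp hv.2).2
    have h3 : (z : G) ^ 2 = ((z * (z * g) : P) : G) * (g : G)⁻¹ := by simp [pow_two, mul_assoc]
    obtain ⟨k, hk⟩ := h.hP z
    have hk' : (z : G) ^ p ^ k = 1 := by
      have := congrArg Subtype.val hk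
      simpa using this
    refine mem_of_pow_mem_of_coprime (n := 2) _ hk' ?_ ?_
    · apply Nat.Coprime.pow_right
      exact (Nat.coprime_primes Nat.prime_two (Fact.out : p.Prime)).mpr (Ne.symm hp2)
    · rw [h3]
      exact mul_mem h2 (inv_mem h1)
  have i12 : fx V ((z * g : P) : G) ⊓ fx V ((z * (z * g) : P) : G) ≤ V ⊓ centralizer (P : Set G) := by
    intro v hv
    have h1 : (y : G)⁻¹ * v * (y : G)⁻¹⁻¹ ∈ fx V (g : G) := by
      have := conj_mem_fx (inv_mem (h.hPV y.2)) (hE₁ ▸ hv.1)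
      have e : (y : G)⁻¹ * ((y : G) * g * (y : G)⁻¹) * (y : G)⁻¹⁻¹ = g := by group
      rwa [e] at this
    have h2 : (y : G)⁻¹ * v * (y : G)⁻¹⁻¹ ∈ fx V ((z * g : P) : G) := by
      have := conj_mem_fx (inv_mem (h.hPV y.2)) (hE₂ ▸ hv.2)
      have e : (y : G)⁻¹ * ((y : G) * ((z * g : P) : G) * (y : G)⁻¹) * (y : G)⁻¹⁻¹ = ((z * g : P) : G) := by group
      rwa [e] at this
    have h3 := i01 ⟨h1, h2⟩
    have h4 := mem_centralizer_iff.mp h3.2 y y.2
    have h5 : (y : G)⁻¹ * v * (y : G)⁻¹⁻¹ = v := by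
      have : v = (y : G) * ((y : G)⁻¹ * v * (y : G)⁻¹⁻¹) * (y : G)⁻¹ := by group
      conv_rhs => rw [this, h4]
      group
    rwa [h5] at h3
  have hc0 := h.inf_le_fx g
  have hc1 := h.inf_le_fx (z * g)
  have hc2 := h.inf_le_fx (z * (z * g))
  have hn1 : (g : G) ∈ normalizer (fx V ((z * g : P) : G) : Set G) := by
    apply mem_normalizer_fx h.hPV
    rw [map_mul]
    exact (hz g).mul_right (Commute.refl _)
  have hn2 : (g : G) ∈ normalizer (fx V ((z * (z * g) : P) : G) : Set G) := by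
    apply mem_normalizer_fx h.hPV
    rw [map_mul, map_mul]
    exact (hz g).mul_right ((hz g).mul_right (Commute.refl _))
  generalize hE₀' : fx V (g : G) = E₀ at *
  generalize hE₁' : fx V ((z * g : P) : G) = E₁ at *
  generalize hE₂' : fx V ((z * (z * g) : P) : G) = E₂ at *
  have hV0 : E₀ ≤ V := hE₀' ▸ fx_le V _
  have hV1 : E₁ ≤ V := hE₁' ▸ fx_le V _
  have hV2 : E₂ ≤ V := hE₂' ▸ fx_le V _
  have hKV : E₁ ⊔ E₂ ≤ V := sup_le hV1 hV2
  have hpz : IsPGroup p (zpowers (g : G)) := h.hP.to_le (zpowers_le.mpr g.2)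
  have i0K : E₀ ⊓ (E₁ ⊔ E₂) ≤ V ⊓ centralizer (P : Set G) := by
    intro k hk
    have hkg : (g : G) ∈ centralizer ({k} : Set G) := by
      have : k ∈ fx V (g : G) := hE₀' ▸ hk.1
      exact (mem_fx'.mp this).2
    have hkA : k ∈ centralizer (zpowers (g : G) : Set G) := by
      rw [mem_centralizer_iff]
      intro x hx
      exact mem_centralizer_singleton_iff.mp (zpowers_le.mpr hkg hx)
    have hcop : (Nat.card (zpowers (g : G))).Coprime (Nat.card (E₁ ⊔ E₂ : Subgroup G)) := by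
      obtain ⟨j, hj⟩ := IsPGroup.iff_card.mp hpz
      rw [hj]
      apply Nat.Coprime.pow_left
      exact (Nat.Coprime.coprime_dvd_left (Subgroup.card_dvd_of_le hKV) h.hcop).symm
    have : Group.IsNilpotent (zpowers (g : G)) := hpz.isNilpotent
    obtain ⟨a, ha, b, hb, rfl⟩ := Cfsg.Agent.S0030.result (zpowers (g : G)) (E₁ ⊔ E₂)
      (zpowers_le.mpr (normalizer_inf_le_normalizer_sup _ _ ⟨hn1, hn2⟩)) hcop (Or.inl inferInstance) E₁ E₂
      le_sup_left le_sup_right (zpowers_le.mpr hn1) (zpowers_le.mpr hn2)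
      (fun k hk => mem_sup_of_le_normalizer (hV1.trans (h.le_normalizer hc2 hV2)) hk) k ⟨hk.2, hkA⟩
    have hfx : ∀ w ∈ V, w ∈ centralizer (zpowers (g : G) : Set G) → w ∈ E₀ := by
      intro w hw hwc
      rw [← hE₀', mem_fx']
      refine ⟨hw, mem_centralizer_singleton_iff.mpr ?_⟩
      exact mem_centralizer_iff.mp hwc g (mem_zpowers _)
    exact mul_mem (i01 ⟨hfx a (hV1 ha.1) ha.2, ha.1⟩) (i02 ⟨hfx b (hV2 hb.1) hb.2, hb.1⟩)
  have s12 := card_sup_mul_card_inf E₁ E₂ (hV1.trans (h.le_normalizer hc2 hV2))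
  have s0 := card_sup_mul_card_inf E₀ (E₁ ⊔ E₂) (hV0.trans (h.le_normalizer (hc1.trans le_sup_left) hKV))
  rw [le_antisymm i12 (le_inf hc1 hc2)] at s12
  rw [le_antisymm i0K (le_inf hc0 (hc1.trans le_sup_left))] at s0
  have hle : Nat.card (E₀ ⊔ (E₁ ⊔ E₂) : Subgroup G) ≤ Nat.card V := Subgroup.card_le_of_le (sup_le hV0 hKV)
  rw [c1, c2] at s12
  generalize Nat.card E₀ = e at *
  generalize Nat.card (V ⊓ centralizer (P : Set G) : Subgroup G) = c at *
  generalize Nat.card (E₁ ⊔ E₂ : Subgroup G) = k at *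
  generalize Nat.card (E₀ ⊔ (E₁ ⊔ E₂) : Subgroup G) = m at *
  generalize Nat.card V = n at *
  calc e ^ 3 = e * (e * e) := by ring
    _ = e * (k * c) := by rw [s12]
    _ = (e * k) * c := by ring
    _ = (m * c) * c := by rw [s0]
    _ ≤ (n * c) * c := by gcongr
    _ = n * c ^ 2 := by ring

end Cfsg.Agent.Lib.Helper13
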