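import Mathlib
import Cfsg.Agent.Lib.Helper13.BSVar2

set_option autoImplicit false

/-! The contradiction for a minimal non-centralized configuration with factorizations. -/

namespace Cfsg.Agent.Lib.Helper13

open Subgroup
open scoped commutatorElement

variable {G : Type*} [Group G]

theorem exists_two_step [Finite G] {T F : Subgroup G} [Group.IsNilpotent T]
    (U : Subgroup G) (hUT : U ≤ T) (hTU : T ≤ normalizer (U : Set G)) (hUF : ¬ ⁅U, T⁆ ≤ F) :
    ∃ y ∈ U, (∃ h ∈ T, ⁅y, h⁆ ∉ F) ∧ ∀ h ∈ T, ∀ h' ∈ T, ⁅⁅y, h⁆, h'⁆ ∈ F := by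
  induction hn : Nat.card U using Nat.strong_induction_on generalizing U with
  | _ n ih =>
    by_cases h : ⁅⁅U, T⁆, T⁆ ≤ F
    · rw [Subgroup.commutator_le] at hUF
      push Not at hUF
      obtain ⟨y, hy, k, hk, hyk⟩ := hUF
      exact ⟨y, hy, ⟨k, hk, hyk⟩, fun a ha b hb =>
        h (Subgroup.commutator_mem_commutator (Subgroup.commutator_mem_commutator hy ha) hb)⟩
    · have hle : ⁅U, T⁆ ≤ U := Subgroup.le_normalizer_iff_commutator_le_left.mp hTU
      have hne : ⁅U, T⁆ ≠ U := by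
        intro he
        have := eq_bot_of_le_commutator_nilpotent hUT (le_of_eq he.symm)
        apply hUF
        rw [this]
        simp
      have hlt : Nat.card ↥⁅U, T⁆ < n := by
        rw [← hn]
        by_contra hcon
        push Not at hcon
        exact hne (Subgroup.eq_of_le_of_card_ge hle hcon)
      obtain ⟨y, hy, h1, h2⟩ := ih _ hlt ⁅U, T⁆ (hle.trans hUT) (Subgroup.normalizer_commutator_ge_right U T) h rfl
      exact ⟨y, hle hy, h1, h2⟩

theorem commute_psi_iff {P V : Subgroup G} (hPV : P ≤ normalizer (V : Set G)) (a b : P) :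
    Commute (psi hPV a) (psi hPV b) ↔ ⁅(a : G), (b : G)⁆ ∈ centralizer (V : Set G) := by
  have h1 : ⁅(a : G), (b : G)⁆ = ((a * b * a⁻¹ * b⁻¹ : P) : G) := by
    rw [commutatorElement_def]; rfl
  rw [h1, ← psi_eq_one_iff hPV, map_mul, map_mul, map_mul, map_inv, map_inv]
  constructor
  · intro h
    rw [h.eq]
    group
  · intro h
    show _ = _
    calc psi hPV a * psi hPV b = (psi hPV a * psi hPV b * (psi hPV a)⁻¹ * (psi hPV b)⁻¹) * (psi hPV b * psi hPV a) := by
          group
      _ = psi hPV b * psi hPV a := by rw [h, one_mul]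

/-- if all elements of a generating set commute with `y` in their action, so does everything -/
theorem commute_psi_of_closure {P V : Subgroup G} (hPV : P ≤ normalizer (V : Set G)) {C : Set G}
    (hC : closure C = P) (α : MulAut V) (h : ∀ c : P, (c : G) ∈ C → Commute α (psi hPV c)) (k : P) :
    Commute α (psi hPV k) := by
  have h1 : closure C ≤ ((centralizer ({α} : Set (MulAut V))).comap (psi hPV)).map P.subtype := by
    rw [closure_le]
    intro c hc
    have hcP : c ∈ P := hC ▸ subset_closure hc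
    refine ⟨⟨c, hcP⟩, ?_, rfl⟩
    rw [SetLike.mem_coe, mem_comap, mem_centralizer_singleton_iff]
    exact (h ⟨c, hcP⟩ hc).eq.symm
  rw [hC] at h1
  obtain ⟨k', hk', hkk⟩ := h1 k.2
  have : k' = k := Subtype.ext hkk
  rw [this, SetLike.mem_coe, mem_comap, mem_centralizer_singleton_iff] at hk'
  exact hk'.symm

variable [Finite G] {p : ℕ} [Fact p.Prime] {P V : Subgroup G}

theorem BSCfg.false (h : BSCfg p P V) (hp2 : p ≠ 2) (C D : Set G) (hC : closure C = P) (hD : closure D = P)
    (hfac : ∀ c ∈ C, ∀ d ∈ D, ∀ x ∈ V, ∃ a ∈ fx V d, ∃ b ∈ fx V c, x = a * b) : False := by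
  have hnil : Group.IsNilpotent P := h.hP.isNilpotent
  have hCP : ∀ c ∈ C, c ∈ P := fun c hc => hC ▸ subset_closure hc
  have hDP : ∀ c ∈ D, c ∈ P := fun c hc => hD ▸ subset_closure hc
  by_cases hab : ⁅P, P⁆ ≤ centralizer (V : Set G)
  · -- the abelian case
    have hcomm : ∀ a b : P, Commute (psi h.hPV a) (psi h.hPV b) := by
      intro a b
      rw [commute_psi_iff]
      exact hab (Subgroup.commutator_mem_commutator a.2 b.2)
    have hex : ∀ C' : Set G, closure C' = P → ∃ c : P, (c : G) ∈ C' ∧ psi h.hPV c ≠ 1 := by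
      intro C' hC'
      by_contra hcon
      push Not at hcon
      apply h.hnc
      rw [le_centralizer_iff, ← hC', closure_le]
      intro c hc
      have hcP : c ∈ P := hC' ▸ subset_closure hc
      exact (psi_eq_one_iff h.hPV ⟨c, hcP⟩).mp (hcon ⟨c, hcP⟩ hc)
    obtain ⟨c, hc, hc1⟩ := hex C hC
    obtain ⟨d, hd, hd1⟩ := hex D hD
    apply h.hnc
    intro x hx
    obtain ⟨a, ha, b, hb, rfl⟩ := hfac c hc d hd x hx
    exact mul_mem (h.fx_le_centralizer d (fun k => hcomm k d) hd1 ha) (h.fx_le_centralizer c (fun k => hcomm k c) hc1 hb)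
  · obtain ⟨y, hy, ⟨k, hk, hyk⟩, h2⟩ := exists_two_step (T := P) (F := centralizer (V : Set G)) P le_rfl Subgroup.le_normalizer hab
    have hex : ∀ C' : Set G, closure C' = P → ∃ c : P, (c : G) ∈ C' ∧
        Nat.card (fx V (c : G)) ^ 3 ≤ Nat.card V * Nat.card (V ⊓ centralizer (P : Set G) : Subgroup G) ^ 2 := by
      intro C' hC'
      have h3 : ∃ c : P, (c : G) ∈ C' ∧ ¬ Commute (psi h.hPV ⟨y, hy⟩) (psi h.hPV c) := by
        by_contra hcon
        push Not at hcon
        have := commute_psi_of_closure h.hPV hC' (psi h.hPV ⟨y, hy⟩) hcon ⟨k, hk⟩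
        rw [commute_psi_iff] at this
        exact hyk this
      obtain ⟨c, hc, hnc⟩ := h3
      refine ⟨c, hc, ?_⟩
      have hzc : (((⟨y, hy⟩ : P) * c * (⟨y, hy⟩ : P)⁻¹ * c⁻¹ : P) : G) = ⁅y, (c : G)⁆ := by
        rw [commutatorElement_def]; rfl
      apply h.card_fx_pow_le hp2 c ⟨y, hy⟩ ((⟨y, hy⟩ : P) * c * (⟨y, hy⟩ : P)⁻¹ * c⁻¹) (by group)
      · intro k'
        apply Commute.symm
        rw [commute_psi_iff, hzc]
        exact h2 c c.2 k' k'.2
      · intro h1
        apply hnc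
        rw [commute_psi_iff]
        rw [psi_eq_one_iff, hzc] at h1
        exact h1
    obtain ⟨c, hc, hc3⟩ := hex C hC
    obtain ⟨d, hd, hd3⟩ := hex D hD
    have hsup : fx V (d : G) ⊔ fx V (c : G) = V := by
      refine le_antisymm (sup_le (fx_le _ _) (fx_le _ _)) ?_
      intro x hx
      obtain ⟨a, ha, b, hb, rfl⟩ := hfac c hc d hd x hx
      exact mul_mem (le_sup_left (a := fx V (d : G)) ha) (le_sup_right (a := fx V (d : G)) hb)
    have s := card_sup_mul_card_inf (fx V (d : G)) (fx V (c : G))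
      ((fx_le _ _).trans (h.le_normalizer (h.inf_le_fx c) (fx_le _ _)))
    rw [hsup] at s
    have hle : Nat.card (V ⊓ centralizer (P : Set G) : Subgroup G) ≤ Nat.card (fx V (d : G) ⊓ fx V (c : G) : Subgroup G) :=
      Subgroup.card_le_of_le (le_inf (h.inf_le_fx d) (h.inf_le_fx c))
    have hlt : Nat.card (V ⊓ centralizer (P : Set G) : Subgroup G) < Nat.card V := by
      by_contra hcon
      push Not at hcon
      have := Subgroup.eq_of_le_of_card_ge (inf_le_left : V ⊓ centralizer (P : Set G) ≤ V) hcon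
      exact h.hnc (this ▸ inf_le_right)
    have hpos : 0 < Nat.card (V ⊓ centralizer (P : Set G) : Subgroup G) := Nat.card_pos
    generalize Nat.card (fx V (d : G)) = ed at *
    generalize Nat.card (fx V (c : G)) = ec at *
    generalize Nat.card (fx V (d : G) ⊓ fx V (c : G) : Subgroup G) = i at *
    generalize Nat.card (V ⊓ centralizer (P : Set G) : Subgroup G) = c₀ at *
    generalize Nat.card V = n at *
    have h5 : n * c₀ ≤ ed * ec := by
      rw [← s]
      gcongr
    have h6 : (n * c₀) ^ 3 ≤ (n * c₀ ^ 2) * (n * c₀ ^ 2) := by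
      calc (n * c₀) ^ 3 ≤ (ed * ec) ^ 3 := by gcongr
        _ = ed ^ 3 * ec ^ 3 := by ring
        _ ≤ (n * c₀ ^ 2) * (n * c₀ ^ 2) := by gcongr
    have h7 : (n ^ 2 * c₀ ^ 3) * n ≤ (n ^ 2 * c₀ ^ 3) * c₀ := by
      calc (n ^ 2 * c₀ ^ 3) * n = (n * c₀) ^ 3 := by ring
        _ ≤ (n * c₀ ^ 2) * (n * c₀ ^ 2) := h6
        _ = (n ^ 2 * c₀ ^ 3) * c₀ := by ring
    have hn0 : 0 < n := lt_of_le_of_lt (Nat.zero_le _) hlt
    have h8 : 0 < n ^ 2 * c₀ ^ 3 := by positivity
    have := Nat.le_of_mul_le_mul_left h7 h8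
    omega

end Cfsg.Agent.Lib.Helper13
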