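import Mathlib
import Cfsg.Agent.Lib.Helper13.PAction

set_option autoImplicit false

/-! Orbit products: the product of the orbit of an element of a commutative group under a group of automorphisms. -/

namespace Cfsg.Agent.Lib.Helper13

open scoped commutatorElement

section abstract

variable {X W : Type*} [Group X] [CommGroup W] [MulDistribMulAction X W] [Finite W]

open Classical in
/-- the orbit of `u` under the subgroup `M`, as a finset -/
noncomputable def orbF (M : Subgroup X) (u : W) : Finset W :=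
  (Set.toFinite {y : W | ∃ m ∈ M, m • u = y}).toFinset

theorem mem_orbF {M : Subgroup X} {u y : W} : y ∈ orbF M u ↔ ∃ m ∈ M, m • u = y := by
  simp [orbF]

/-- the product of the orbit -/
noncomputable def orbProd (M : Subgroup X) (u : W) : W := ∏ y ∈ orbF M u, y

theorem smul_orbProd_of_normalizes (M : Subgroup X) (u : W) (t : X) (ht : ∀ m, m ∈ M ↔ t * m * t⁻¹ ∈ M) :
    t • orbProd M u = orbProd M (t • u) := by
  unfold orbProd
  rw [Finset.smul_prod']
  refine Finset.prod_bij (fun y _ => t • y) ?_ ?_ ?_ ?_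
  · intro y hy
    obtain ⟨m, hm, rfl⟩ := mem_orbF.mp hy
    refine mem_orbF.mpr ⟨t * m * t⁻¹, (ht m).mp hm, ?_⟩
    rw [← mul_smul, ← mul_smul]
    congr 1
    group
  · intro a _ b _ h
    exact MulAction.injective t h
  · intro y hy
    obtain ⟨m, hm, rfl⟩ := mem_orbF.mp hy
    have h1 : t⁻¹ * m * t ∈ M := by
      rw [ht]
      have : t * (t⁻¹ * m * t) * t⁻¹ = m := by group
      rwa [this]
    refine ⟨(t⁻¹ * m * t) • u, mem_orbF.mpr ⟨_, h1, rfl⟩, ?_⟩
    rw [← mul_smul, ← mul_smul]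
    congr 1
    group
  · intro y _
    rfl

theorem orbF_smul (M : Subgroup X) (u : W) {m : X} (hm : m ∈ M) : orbF M (m • u) = orbF M u := by
  ext y
  rw [mem_orbF, mem_orbF]
  constructor
  · rintro ⟨k, hk, rfl⟩
    exact ⟨k * m, M.mul_mem hk hm, mul_smul _ _ _⟩
  · rintro ⟨k, hk, rfl⟩
    refine ⟨k * m⁻¹, M.mul_mem hk (M.inv_mem hm), ?_⟩
    rw [← mul_smul]
    congr 1
    group

theorem smul_orbProd (M : Subgroup X) (u : W) {m : X} (hm : m ∈ M) : m • orbProd M u = orbProd M u := by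
  rw [smul_orbProd_of_normalizes M u m]
  · unfold orbProd
    rw [orbF_smul M u hm]
  · intro k
    constructor
    · intro hk
      exact M.mul_mem (M.mul_mem hm hk) (M.inv_mem hm)
    · intro hk
      have : k = m⁻¹ * (m * k * m⁻¹) * m := by group
      rw [this]
      exact M.mul_mem (M.mul_mem (M.inv_mem hm) hk) hm

theorem orbProd_mul_fixed (M : Subgroup X) (u f : W) (hf : ∀ m ∈ M, m • f = f) :
    orbProd M (u * f) = orbProd M u * f ^ (orbF M u).card ∧ (orbF M (u * f)).card = (orbF M u).card := by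
  have hbij : ∀ g : W → W, ∏ y ∈ orbF M (u * f), g y = ∏ y ∈ orbF M u, g (y * f) := by
    intro g
    symm
    refine Finset.prod_bij (fun y _ => y * f) ?_ ?_ ?_ ?_
    · intro y hy
      obtain ⟨m, hm, rfl⟩ := mem_orbF.mp hy
      exact mem_orbF.mpr ⟨m, hm, by rw [smul_mul', hf m hm]⟩
    · intro a _ b _ h
      exact mul_right_cancel h
    · intro y hy
      obtain ⟨m, hm, rfl⟩ := mem_orbF.mp hy
      exact ⟨m • u, mem_orbF.mpr ⟨m, hm, rfl⟩, by rw [smul_mul', hf m hm]⟩
    · intro y _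
      rfl
  constructor
  · unfold orbProd
    rw [hbij (fun y => y), Finset.prod_mul_distrib, Finset.prod_const]
  · refine (Finset.card_bij (fun y _ => y * f) ?_ ?_ ?_).symm
    · intro y hy
      obtain ⟨m, hm, rfl⟩ := mem_orbF.mp hy
      exact mem_orbF.mpr ⟨m, hm, by rw [smul_mul', hf m hm]⟩
    · intro a _ b _ h
      exact mul_right_cancel h
    · intro y hy
      obtain ⟨m, hm, rfl⟩ := mem_orbF.mp hy
      exact ⟨m • u, mem_orbF.mpr ⟨m, hm, rfl⟩, by rw [smul_mul', hf m hm]⟩

theorem orbProd_mem (M : Subgroup X) (u : W) (B : Subgroup W) (h : ∀ m ∈ M, m • u ∈ B) : orbProd M u ∈ B := by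
  unfold orbProd
  refine Subgroup.prod_mem B ?_
  intro y hy
  obtain ⟨m, hm, rfl⟩ := mem_orbF.mp hy
  exact h m hm

theorem pow_div_orbProd_mem (M : Subgroup X) (u : W) (B : Subgroup W) (h : ∀ m ∈ M, u * (m • u)⁻¹ ∈ B) :
    u ^ (orbF M u).card * (orbProd M u)⁻¹ ∈ B := by
  have h1 : u ^ (orbF M u).card * (orbProd M u)⁻¹ = ∏ y ∈ orbF M u, u * y⁻¹ := by
    unfold orbProd
    rw [Finset.prod_mul_distrib, Finset.prod_const, Finset.prod_inv_distrib]
  rw [h1]
  refine Subgroup.prod_mem B ?_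
  intro y hy
  obtain ⟨m, hm, rfl⟩ := mem_orbF.mp hy
  exact h m hm

theorem card_orbF_dvd [Finite X] (M R : Subgroup X) (u : W) (hR : ∀ r ∈ R, r • u = u) :
    (orbF M u).card ∣ R.relIndex M := by
  have h1 : (orbF M u).card = Nat.card (MulAction.orbit M u) := by
    rw [Nat.card_coe_set_eq, ← Set.ncard_coe_finset]
    congr 1
    ext y
    rw [Finset.mem_coe, mem_orbF, MulAction.mem_orbit_iff]
    constructor
    · rintro ⟨m, hm, rfl⟩
      exact ⟨⟨m, hm⟩, rfl⟩
    · rintro ⟨m, rfl⟩
      exact ⟨m, m.2, rfl⟩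
  rw [h1, Nat.card_coe_set_eq, ← MulAction.index_stabilizer]
  apply Subgroup.index_dvd_of_le
  intro r hr
  rw [MulAction.mem_stabilizer_iff]
  exact hR r hr

end abstract

section concrete

variable {G : Type*} [Group G] [Finite G]

open Subgroup
open scoped IsMulCommutative

/-- averaging over an orbit inside an abelian subgroup `A` normalized by `C` -/
theorem exists_avg (A C : Subgroup G) (hA : ∀ a ∈ A, ∀ b ∈ A, a * b = b * a) (hC : C ≤ normalizer (A : Set G))
    (u : G) (hu : u ∈ A) :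
    ∃ (n : ℕ) (s : G), s ∈ A ∧ (∀ R : Subgroup G, (∀ r ∈ R, r * u * r⁻¹ = u) → n ∣ R.relIndex C) ∧
      (∀ c ∈ C, c * s * c⁻¹ = s) ∧
      (∀ B : Subgroup G, (∀ c ∈ C, c * u * c⁻¹ ∈ B) → s ∈ B) ∧
      (∀ B : Subgroup G, (∀ c ∈ C, u * (c * u * c⁻¹)⁻¹ ∈ B) → u ^ n * s⁻¹ ∈ B) ∧
      (∀ t ∈ normalizer (A : Set G) ⊓ normalizer (C : Set G), ∀ f ∈ A, (∀ c ∈ C, c * f * c⁻¹ = f) →
        t * u * t⁻¹ = u * f → t * s * t⁻¹ = s * f ^ n) := by
  have : IsMulCommutative A := ⟨⟨fun a b => Subtype.ext (hA a a.2 b b.2)⟩⟩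
  set M : Subgroup (normalizer (A : Set G)) := C.subgroupOf (normalizer (A : Set G)) with hM
  set u' : A := ⟨u, hu⟩ with hu'
  have hsm : ∀ (m : normalizer (A : Set G)) (w : A), ((m • w : A) : G) = m * w * (m : G)⁻¹ := fun _ _ => rfl
  refine ⟨(orbF M u').card, (orbProd M u' : A), (orbProd M u').2, ?_, ?_, ?_, ?_, ?_⟩
  · intro R hR
    have h1 := card_orbF_dvd M (R.subgroupOf (normalizer (A : Set G))) u' (by
      intro r hr
      apply Subtype.ext
      rw [hsm]
      exact hR r hr)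
    rwa [hM, Subgroup.relIndex_subgroupOf hC] at h1
  · intro c hc
    have h1 := smul_orbProd M u' (m := ⟨c, hC hc⟩) hc
    have h2 := congrArg Subtype.val h1
    rwa [hsm] at h2
  · intro B hB
    have h1 := orbProd_mem M u' (B.subgroupOf A) (by
      intro m hm
      rw [Subgroup.mem_subgroupOf, hsm]
      exact hB m hm)
    exact h1
  · intro B hB
    have h1 := pow_div_orbProd_mem M u' (B.subgroupOf A) (by
      intro m hm
      rw [Subgroup.mem_subgroupOf]
      exact hB m hm)
    exact h1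
  · intro t ht f hf hfix htu
    have h1 := smul_orbProd_of_normalizes M u' ⟨t, ht.1⟩ (by
      intro m
      exact Subgroup.mem_normalizer_iff.mp ht.2 m)
    have h2 : (⟨t, ht.1⟩ : normalizer (A : Set G)) • u' = u' * ⟨f, hf⟩ := by
      apply Subtype.ext
      rw [hsm]
      exact htu
    rw [h2, (orbProd_mul_fixed M u' ⟨f, hf⟩ (by
      intro m hm
      apply Subtype.ext
      rw [hsm]
      exact hfix m hm)).1] at h1
    have h3 := congrArg Subtype.val h1
    rw [hsm] at h3
    exact h3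

end concrete

/-- In a nilpotent subgroup `T`, a `T`-invariant subgroup `U ≤ T` not inside `F` has an element outside `F` all of
whose commutators with `T` lie in `F`. -/
theorem exists_notMem_commutator_mem {G : Type*} [Group G] [Finite G] {T F : Subgroup G} [Group.IsNilpotent T]
    (U : Subgroup G) (hUT : U ≤ T) (hTU : T ≤ Subgroup.normalizer (U : Set G)) (hUF : ¬ U ≤ F) :
    ∃ u ∈ U, u ∉ F ∧ ∀ t ∈ T, ⁅u, t⁆ ∈ F := by
  induction hn : Nat.card U using Nat.strong_induction_on generalizing U with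
  | _ n ih =>
    by_cases h : ⁅U, T⁆ ≤ F
    · obtain ⟨u, hu, huF⟩ := SetLike.not_le_iff_exists.mp hUF
      exact ⟨u, hu, huF, fun t ht => h (Subgroup.commutator_mem_commutator hu ht)⟩
    · have hle : ⁅U, T⁆ ≤ U := Subgroup.le_normalizer_iff_commutator_le_left.mp hTU
      have hne : ⁅U, T⁆ ≠ U := by
        intro he
        have := eq_bot_of_le_commutator_nilpotent hUT (le_of_eq he.symm)
        rw [this] at hUF
        exact hUF bot_le
      have hlt : Nat.card ↥⁅U, T⁆ < n := by
        rw [← hn]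
        by_contra hcon
        push Not at hcon
        exact hne (Subgroup.eq_of_le_of_card_ge hle hcon)
      obtain ⟨u, hu, h1, h2⟩ := ih _ hlt ⁅U, T⁆ (hle.trans hUT) (Subgroup.normalizer_commutator_ge_right U T) h rfl
      exact ⟨u, hle hu, h1, h2⟩

end Cfsg.Agent.Lib.Helper13
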