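import Cfsg.Agent.Lib.Helper13.Puig3

set_option autoImplicit false
open Cfsg

/-! `L(K) = L(H)` for `L(H) ≤ K ≤ H`. -/

namespace Cfsg.Agent.Lib.Helper13

open Subgroup

variable {G : Type*} [Group G]

def pUp (H : Subgroup G) : Subgroup G := (puigSubgroup ↥H).map H.subtype
def pLo (H : Subgroup G) : Subgroup G := (puigLower ↥H).map H.subtype

theorem puigStep_map_subtype (H : Subgroup G) (X : Subgroup ↥H) :
    (puigStep X).map H.subtype = pStepIn H (X.map H.subtype) := by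
  rw [← pStepIn_top, pStepIn_map _ H.subtype_injective, ← MonoidHom.range_eq_map, H.range_subtype]

theorem pUp_le (H : Subgroup G) : pUp H ≤ H := map_subtype_le _

theorem pSeqIn_even_le_pLo (H : Subgroup G) (n : ℕ) : pSeqIn H (2 * n) ≤ pLo H := by
  rw [← puigSeq_map_subtype]
  exact map_mono (le_iSup (fun n => puigSeq ↥H (2 * n)) n)

variable [Finite G]

theorem pStepIn_pLo (H : Subgroup G) : pStepIn H (pLo H) = pUp H := by
  unfold pLo pUp
  rw [← puigStep_map_subtype, (Cfsg.Agent.S1467.result (G := ↥H)).2.2.2.2.2.1]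

theorem pStepIn_pUp (H : Subgroup G) : pStepIn H (pUp H) = pLo H := by
  unfold pLo pUp
  rw [← puigStep_map_subtype, (Cfsg.Agent.S1467.result (G := ↥H)).2.2.2.2.2.2]

theorem pLo_le_pUp (H : Subgroup G) : pLo H ≤ pUp H :=
  map_mono (Cfsg.Agent.S1467.result (G := ↥H)).2.2.2.2.1

theorem exists_pSeqIn_stab (H : Subgroup G) :
    ∃ k, ∀ n, k ≤ n → pSeqIn H (2 * n) = pLo H ∧ pSeqIn H (2 * n + 1) = pUp H := by
  obtain ⟨k, hk⟩ := (Cfsg.Agent.S1467.result (G := ↥H)).2.2.2.1
  refine ⟨k, fun n hn => ⟨?_, ?_⟩⟩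
  · rw [← puigSeq_map_subtype, (hk n hn).1]; rfl
  · rw [← puigSeq_map_subtype, (hk n hn).2]; rfl

theorem pUp_eq_of_le {H K : Subgroup G} (h1 : pUp H ≤ K) (h2 : K ≤ H) : pUp K = pUp H := by
  have a1 : ∀ n, pSeqIn H (2 * n) ≤ pSeqIn K (2 * n) → pSeqIn K (2 * n + 1) ≤ pSeqIn H (2 * n + 1) := by
    intro n ih
    refine sSup_le ?_
    rintro A ⟨hA1, hA2, hA3⟩
    exact le_pStepIn (hA1.trans h2) hA2 (ih.trans hA3)
  have a2 : ∀ n, pSeqIn H (2 * n) ≤ pSeqIn K (2 * n) := by
    intro n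
    induction n with
    | zero => exact bot_le
    | succ n ih =>
      have h3 := a1 n ih
      change pStepIn H (pSeqIn H (2 * n + 1)) ≤ pStepIn K (pSeqIn K (2 * n + 1))
      refine sSup_le ?_
      rintro A ⟨hA1, hA2, hA3⟩
      have h4 : A ≤ pSeqIn H (2 * (n + 1)) := le_pStepIn hA1 hA2 hA3
      exact le_pStepIn (h4.trans ((pSeqIn_even_le_pLo H _).trans ((pLo_le_pUp H).trans h1))) hA2 (h3.trans hA3)
  have b1 : ∀ n, pSeqIn K (2 * n) ≤ pLo H → pUp H ≤ pSeqIn K (2 * n + 1) := by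
    intro n ih
    rw [← pStepIn_pLo]
    refine sSup_le ?_
    rintro A ⟨hA1, hA2, hA3⟩
    have h4 : A ≤ pUp H := by
      rw [← pStepIn_pLo]
      exact le_pStepIn hA1 hA2 hA3
    exact le_pStepIn (h4.trans h1) hA2 (ih.trans hA3)
  have b2 : ∀ n, pSeqIn K (2 * n) ≤ pLo H := by
    intro n
    induction n with
    | zero => exact bot_le
    | succ n ih =>
      have h3 := b1 n ih
      change pStepIn K (pSeqIn K (2 * n + 1)) ≤ pLo H
      rw [← pStepIn_pUp]
      refine sSup_le ?_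
      rintro A ⟨hA1, hA2, hA3⟩
      exact le_pStepIn (hA1.trans h2) hA2 (h3.trans hA3)
  obtain ⟨k1, hk1⟩ := exists_pSeqIn_stab H
  obtain ⟨k2, hk2⟩ := exists_pSeqIn_stab K
  apply le_antisymm
  · rw [← (hk2 _ (le_max_right k1 k2)).2, ← (hk1 _ (le_max_left k1 k2)).2]
    exact a1 _ (a2 _)
  · rw [← (hk2 _ (le_max_right k1 k2)).2]
    exact b1 _ (b2 _)

omit [Finite G] in
/-- the centre of a subgroup, seen in the ambient group. -/
theorem center_map_map {Q : Type*} [Group Q] (f : Q →* G) (hf : Function.Injective f) (L : Subgroup Q) :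
    ((center ↥L).map L.subtype).map f = L.map f ⊓ centralizer (L.map f : Set G) := by
  ext x
  constructor
  · rintro ⟨_, ⟨z, hz, rfl⟩, rfl⟩
    refine mem_inf.mpr ⟨⟨z, z.2, rfl⟩, ?_⟩
    rw [mem_centralizer_iff]
    rintro _ ⟨l, hl, rfl⟩
    have := (mem_center_iff.mp hz) ⟨l, hl⟩
    have h2 := congrArg (fun t : ↥L => f t) this
    simpa using h2
  · rintro ⟨⟨l, hl, rfl⟩, h2⟩
    refine ⟨l, ⟨⟨l, hl⟩, ?_, rfl⟩, rfl⟩
    rw [SetLike.mem_coe, mem_center_iff]
    rintro ⟨l', hl'⟩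
    apply Subtype.ext
    apply hf
    have := (mem_centralizer_iff.mp h2) (f l') ⟨l', hl', rfl⟩
    simpa using this

omit [Finite G] in
theorem normalizer_le_normalizer_pSeqIn (H : Subgroup G) (n : ℕ) :
    normalizer (H : Set G) ≤ normalizer (pSeqIn H n : Set G) := by
  have key : ∀ g ∈ normalizer (H : Set G), ∀ x ∈ pSeqIn H n, g * x * g⁻¹ ∈ pSeqIn H n := by
    intro g hg x hx
    have h1 : H.map (MulAut.conj g).toMonoidHom = H := by
      apply le_antisymm
      · rintro _ ⟨t, ht, rfl⟩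
        exact (mem_normalizer_iff.mp hg t).mp ht
      · intro t ht
        refine ⟨g⁻¹ * t * g, ?_, by simp [mul_assoc]⟩
        have := (mem_normalizer_iff.mp (inv_mem hg) t).mp ht
        rwa [inv_inv] at this
    have h2 := pSeqIn_map (MulAut.conj g).toMonoidHom (MulAut.conj g).injective H n
    rw [h1] at h2
    rw [← h2]
    exact ⟨x, hx, rfl⟩
  intro g hg
  rw [mem_normalizer_iff]
  intro x
  refine ⟨key g hg x, fun h => ?_⟩
  have := key g⁻¹ (inv_mem hg) _ h
  simpa [mul_assoc] using this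

theorem normalizer_le_normalizer_pUp (H : Subgroup G) :
    normalizer (H : Set G) ≤ normalizer (pUp H : Set G) := by
  obtain ⟨k, hk⟩ := exists_pSeqIn_stab H
  rw [← (hk k le_rfl).2]
  exact normalizer_le_normalizer_pSeqIn H _

omit [Finite G] in
theorem normalizer_le_normalizer_inf_centralizer (L : Subgroup G) :
    normalizer (L : Set G) ≤ normalizer ((L ⊓ centralizer (L : Set G) : Subgroup G) : Set G) := by
  have key : ∀ g ∈ normalizer (L : Set G), ∀ x ∈ L ⊓ centralizer (L : Set G),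
      g * x * g⁻¹ ∈ L ⊓ centralizer (L : Set G) := by
    intro g hg x hx
    refine mem_inf.mpr ⟨(mem_normalizer_iff.mp hg x).mp hx.1, ?_⟩
    rw [mem_centralizer_iff]
    intro l hl
    have h1 : g⁻¹ * l * g ∈ L := by
      have := (mem_normalizer_iff.mp (inv_mem hg) l).mp hl
      rwa [inv_inv] at this
    have h2 := (mem_centralizer_iff.mp hx.2) _ h1
    calc l * (g * x * g⁻¹) = g * ((g⁻¹ * l * g) * x) * g⁻¹ := by group
      _ = g * (x * (g⁻¹ * l * g)) * g⁻¹ := by rw [h2]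
      _ = g * x * g⁻¹ * l := by group
  intro g hg
  rw [mem_normalizer_iff]
  intro x
  refine ⟨key g hg x, fun h => ?_⟩
  have := key g⁻¹ (inv_mem hg) _ h
  simpa [mul_assoc] using this

end Cfsg.Agent.Lib.Helper13
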