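import Mathlib
import Cfsg.Prelude.Def_PLocal
import Cfsg.Agent.Lib.Helper13.OrbProd
import Cfsg.Agent.Lib.Helper13.Omega
import Cfsg.Agent.Lib.Helper13.Puig4
import Cfsg.Agent.H12.AG
import Cfsg.Agent.H9.Cores
import Cfsg.Agent.Lib.Helper13.StableW3

set_option autoImplicit false

/-! The Kieler lemma: `C_L(Ω₁Z(T)) = C_L(Ω₁Z(T ∩ L))` for subnormal `L` in a group of characteristic `p`. -/

namespace Cfsg.Agent.Lib.Helper13

open Subgroup Cfsg
open scoped commutatorElement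

variable {G : Type*} [Group G]

theorem mem_of_pow_mem_of_not_dvd {p : ℕ} [hp : Fact p.Prime] {z : G} {n : ℕ} (B : Subgroup G) (hz : z ^ p = 1)
    (hn : ¬ p ∣ n) (h : z ^ n ∈ B) : z ∈ B := by
  have hc : Nat.Coprime n p := ((Nat.Prime.coprime_iff_not_dvd hp.out).mpr hn).symm
  obtain ⟨m, -, hm⟩ := Nat.exists_mul_mod_eq_one_of_coprime hc hp.out.one_lt
  have h1 : z ^ (n * m) = z := by
    rw [pow_eq_pow_mod _ hz, hm, pow_one]
  rw [← h1, pow_mul]
  exact B.pow_mem h m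

theorem conj_pow_eq {g z : G} (n : ℕ) : g * z ^ n * g⁻¹ = (g * z * g⁻¹) ^ n := (conj_pow).symm

theorem normalizer_le_normalizer_omegaOne (p : ℕ) (L : Subgroup G) :
    normalizer (L : Set G) ≤ normalizer ((omegaOne p L : Subgroup G) : Set G) := by
  have key : ∀ g ∈ normalizer (L : Set G), ∀ x ∈ omegaOne p L, g * x * g⁻¹ ∈ omegaOne p L := by
    intro g hg x hx
    have h1 : omegaOne p L ≤ (omegaOne p L).comap (MulAut.conj g).toMonoidHom := by
      conv_lhs => rw [omegaOne]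
      rw [closure_le]
      rintro y ⟨hy, hyp⟩
      refine mem_omegaOne ((mem_normalizer_iff.mp hg y).mp hy) ?_
      show (g * y * g⁻¹) ^ p = 1
      rw [← conj_pow_eq, hyp]
      group
    exact h1 hx
  intro g hg
  rw [mem_normalizer_iff]
  intro x
  refine ⟨key g hg x, fun h => ?_⟩
  have := key g⁻¹ (inv_mem hg) _ h
  simpa [mul_assoc] using this

theorem normalizer_inf_le_normalizer_inf (L M : Subgroup G) :
    normalizer (L : Set G) ⊓ normalizer (M : Set G) ≤ normalizer ((L ⊓ M : Subgroup G) : Set G) := by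
  intro g hg
  rw [mem_normalizer_iff]
  intro x
  rw [mem_inf, mem_inf, ← mem_normalizer_iff.mp hg.1 x, ← mem_normalizer_iff.mp hg.2 x]

variable [Finite G] {p : ℕ} [Fact p.Prime]

/-- first half -/
theorem kieler_A {K E T Q T₀ : Subgroup G} (hTK : T ≤ K)
    (hQT : Q ≤ T) (hQn : K ≤ normalizer (Q : Set G)) (hQc : K ⊓ centralizer (Q : Set G) ≤ Q)
    (hEK : E ≤ K) (hEn : K ≤ normalizer (E : Set G)) (hT₀ : T₀ = T ⊓ E) (h0idx : ¬ p ∣ T₀.relIndex E) :
    E ⊓ centralizer (omegaOne p (T₀ ⊓ centralizer (T₀ : Set G)) : Set G) ≤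
      centralizer (omegaOne p (T ⊓ centralizer (T : Set G)) : Set G) := by
  set D := E ⊓ centralizer (omegaOne p (T₀ ⊓ centralizer (T₀ : Set G)) : Set G) with hD
  set A := Q ⊓ centralizer (Q : Set G) with hA
  have hAc : ∀ a ∈ A, ∀ b ∈ A, a * b = b * a := inf_centralizer_comm Q
  have hDE : D ≤ E := inf_le_left
  have hDA : D ≤ normalizer (A : Set G) :=
    (hDE.trans (hEK.trans hQn)).trans (normalizer_le_normalizer_inf_centralizer Q)
  have hT₀E : T₀ ≤ E := hT₀ ▸ inf_le_right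
  have hT₀T : T₀ ≤ T := hT₀ ▸ inf_le_left
  have hT₀D : T₀ ≤ D := by
    refine le_inf hT₀E ?_
    rw [le_centralizer_iff]
    exact (omegaOne_le _).trans inf_le_right
  have hidxD : ¬ p ∣ T₀.relIndex D := by
    intro h
    apply h0idx
    rw [← Subgroup.relIndex_mul_relIndex T₀ D E hT₀D hDE]
    exact Dvd.dvd.mul_right h _
  rw [le_centralizer_iff, omegaOne, closure_le]
  rintro z ⟨hz, hzp⟩
  have hzA : z ∈ A := by
    have h1 : z ∈ centralizer (Q : Set G) := centralizer_le hQT hz.2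
    exact ⟨hQc ⟨hTK hz.1, h1⟩, h1⟩
  obtain ⟨n, s, hsA, hn, hsfix, hsB, hxB, -⟩ := exists_avg A D hAc hDA z hzA
  have hpn : ¬ p ∣ n := by
    intro h
    apply hidxD
    refine h.trans (hn T₀ ?_)
    intro r hr
    have := mem_centralizer_iff.mp hz.2 r (hT₀T hr)
    rw [this]
    group
  have hconjA : ∀ c ∈ D, c * z * c⁻¹ ∈ omegaOne p A := by
    intro c hc
    refine mem_omegaOne ((mem_normalizer_iff.mp (hDA hc) z).mp hzA) ?_
    rw [← conj_pow_eq, hzp]
    group
  have hsO : s ∈ omegaOne p A := hsB _ hconjA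
  have hzO : z ∈ omegaOne p A := mem_omegaOne hzA hzp
  have hxO : z ^ n * s⁻¹ ∈ omegaOne p A := mul_mem (pow_mem hzO n) (inv_mem hsO)
  have hxE : z ^ n * s⁻¹ ∈ E := by
    apply hxB
    intro c hc
    have h1 : z * c * z⁻¹ ∈ E := (mem_normalizer_iff.mp (hEn (hTK hz.1)) c).mp (hDE hc)
    have h2 : z * (c * z * c⁻¹)⁻¹ = (z * c * z⁻¹) * c⁻¹ := by group
    rw [h2]
    exact mul_mem h1 (inv_mem (hDE hc))
  have hxT₀ : z ^ n * s⁻¹ ∈ T₀ := by
    rw [hT₀]
    exact ⟨hQT (omegaOne_le A hxO).1, hxE⟩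
  have hsC : s ∈ centralizer (T₀ : Set G) := by
    rw [mem_centralizer_iff]
    intro r hr
    have := hsfix r (hT₀D hr)
    calc r * s = (r * s * r⁻¹) * r := by group
      _ = s * r := by rw [this]
  have hxC : z ^ n * s⁻¹ ∈ centralizer (T₀ : Set G) :=
    mul_mem (pow_mem (centralizer_le hT₀T hz.2) n) (inv_mem hsC)
  have hxZ : z ^ n * s⁻¹ ∈ omegaOne p (T₀ ⊓ centralizer (T₀ : Set G)) :=
    mem_omegaOne ⟨hxT₀, hxC⟩ (pow_eq_one_of_mem_omegaOne hAc hxO)
  -- now every `d ∈ D` centralizes `z`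
  rw [SetLike.mem_coe, mem_centralizer_iff]
  intro d hd
  have hd1 : d * (z ^ n * s⁻¹) = (z ^ n * s⁻¹) * d := (mem_centralizer_iff.mp hd.2 _ hxZ).symm
  have hd2 : d * s = s * d := by
    have := hsfix d hd
    calc d * s = (d * s * d⁻¹) * d := by group
      _ = s * d := by rw [this]
  have hd3 : z ^ n ∈ centralizer ({d} : Set G) := by
    rw [mem_centralizer_singleton_iff]
    calc z ^ n * d = (z ^ n * s⁻¹) * (s * d) := by group
      _ = (z ^ n * s⁻¹) * (d * s) := by rw [hd2]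
      _ = ((z ^ n * s⁻¹) * d) * s := by group
      _ = (d * (z ^ n * s⁻¹)) * s := by rw [hd1]
      _ = d * z ^ n := by group
  have hd4 := mem_of_pow_mem_of_not_dvd (p := p) _ hzp hpn hd3
  rw [mem_centralizer_singleton_iff] at hd4
  exact hd4.symm

/-- second half -/
theorem kieler_B {K E T Q₀ T₀ : Subgroup G} (hTK : T ≤ K) (hT : IsPGroup p T) (hEK : E ≤ K)
    (hEn : K ≤ normalizer (E : Set G)) (hT₀ : T₀ = T ⊓ E) (h0idx : ¬ p ∣ T₀.relIndex E)
    (hQ₀T : Q₀ ≤ T₀) (hQ₀n : K ≤ normalizer (Q₀ : Set G)) (hQ₀c : E ⊓ centralizer (Q₀ : Set G) ≤ Q₀) :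
    E ⊓ centralizer (omegaOne p (T ⊓ centralizer (T : Set G)) : Set G) ≤
      centralizer (omegaOne p (T₀ ⊓ centralizer (T₀ : Set G)) : Set G) := by
  set C := E ⊓ centralizer (omegaOne p (T ⊓ centralizer (T : Set G)) : Set G) with hC
  set Z0 := omegaOne p (T₀ ⊓ centralizer (T₀ : Set G)) with hZ0
  set A := Q₀ ⊓ centralizer (Q₀ : Set G) with hA
  have hAc : ∀ a ∈ A, ∀ b ∈ A, a * b = b * a := inf_centralizer_comm Q₀
  have hCE : C ≤ E := inf_le_left
  have hT₀E : T₀ ≤ E := hT₀ ▸ inf_le_right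
  have hT₀T : T₀ ≤ T := hT₀ ▸ inf_le_left
  have hKA : K ≤ normalizer (A : Set G) := hQ₀n.trans (normalizer_le_normalizer_inf_centralizer Q₀)
  have hT₀C : T₀ ≤ C := by
    refine le_inf hT₀E ?_
    rw [le_centralizer_iff]
    exact ((omegaOne_le _).trans inf_le_right).trans (centralizer_le hT₀T)
  have hidxC : ¬ p ∣ T₀.relIndex C := by
    intro h
    apply h0idx
    rw [← Subgroup.relIndex_mul_relIndex T₀ C E hT₀C hCE]
    exact Dvd.dvd.mul_right h _
  have hCA : C ≤ normalizer (A : Set G) := (hCE.trans hEK).trans hKA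
  have hTT₀ : T ≤ normalizer (T₀ : Set G) := by
    rw [hT₀]
    exact (le_inf le_normalizer (hTK.trans hEn)).trans (normalizer_inf_le_normalizer_inf T E)
  have hTZ0 : T ≤ normalizer (Z0 : Set G) :=
    (hTT₀.trans (normalizer_le_normalizer_inf_centralizer T₀)).trans (normalizer_le_normalizer_omegaOne p _)
  have hTC : T ≤ normalizer (C : Set G) := by
    refine (le_inf (hTK.trans hEn) ?_).trans (normalizer_inf_le_normalizer_inf _ _)
    refine le_trans ?_ (normalizer_le_normalizer_centralizer _)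
    exact (le_normalizer.trans (normalizer_le_normalizer_inf_centralizer T)).trans
      (normalizer_le_normalizer_omegaOne p _)
  have hZ0c : ∀ a ∈ Z0, ∀ b ∈ Z0, a * b = b * a := fun a ha b hb =>
    inf_centralizer_comm T₀ a (omegaOne_le _ ha) b (omegaOne_le _ hb)
  have hZ0A : T₀ ⊓ centralizer (T₀ : Set G) ≤ A := by
    intro u hu
    have h1 : u ∈ centralizer (Q₀ : Set G) := centralizer_le hQ₀T hu.2
    exact ⟨hQ₀c ⟨hT₀E hu.1, h1⟩, h1⟩
  have hZ0T : Z0 ≤ T := ((omegaOne_le _).trans inf_le_left).trans hT₀T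
  rw [le_centralizer_iff]
  by_contra hcon
  have : Group.IsNilpotent T := hT.isNilpotent
  obtain ⟨u, hu, huF, hcomm⟩ := exists_notMem_commutator_mem (T := T) (F := Z0 ⊓ centralizer (C : Set G)) Z0 hZ0T hTZ0
    (fun h => hcon (h.trans inf_le_right))
  have huA : u ∈ A := hZ0A (omegaOne_le _ hu)
  have hup : u ^ p = 1 := pow_eq_one_of_mem_omegaOne (inf_centralizer_comm T₀) hu
  obtain ⟨n, s, hsA, hn, hsfix, hsB, -, hst⟩ := exists_avg A C hAc hCA u huA
  have hpn : ¬ p ∣ n := by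
    intro h
    apply hidxC
    refine h.trans (hn T₀ ?_)
    intro r hr
    have := mem_centralizer_iff.mp (omegaOne_le _ hu).2 r hr
    rw [this]
    group
  have hconjA : ∀ c ∈ C, c * u * c⁻¹ ∈ omegaOne p A := by
    intro c hc
    refine mem_omegaOne ((mem_normalizer_iff.mp (hCA hc) u).mp huA) ?_
    rw [← conj_pow_eq, hup]
    group
  have hsO : s ∈ omegaOne p A := hsB _ hconjA
  have hsC : s ∈ centralizer (C : Set G) := by
    rw [mem_centralizer_iff]
    intro r hr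
    have := hsfix r hr
    calc r * s = (r * s * r⁻¹) * r := by group
      _ = s * r := by rw [this]
  have hsZ0 : s ∈ Z0 :=
    mem_omegaOne ⟨hQ₀T hsA.1, centralizer_le hT₀C hsC⟩ (pow_eq_one_of_mem_omegaOne hAc hsO)
  have hxZ0 : u ^ n * s⁻¹ ∈ Z0 := mul_mem (pow_mem hu n) (inv_mem hsZ0)
  -- `x` is fixed by `T`
  have hxT : u ^ n * s⁻¹ ∈ centralizer (T : Set G) := by
    rw [mem_centralizer_iff]
    intro t ht
    have hf := hcomm t ht
    set f := ⁅u, t⁆⁻¹ with hfdef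
    have hfF : f ∈ Z0 ⊓ centralizer (C : Set G) := inv_mem hf
    have htu : t * u * t⁻¹ ∈ Z0 := (mem_normalizer_iff.mp (hTZ0 ht) u).mp hu
    have h1 : t * u * t⁻¹ = u * f := by
      have h2 : f = (t * u * t⁻¹) * u⁻¹ := by
        rw [hfdef, commutatorElement_def]
        group
      rw [h2, hZ0c _ htu _ (inv_mem hu)]
      group
    have hfA : f ∈ A := hZ0A (omegaOne_le _ hfF.1)
    have h3 := hst t ⟨hKA (hTK ht), hTC ht⟩ f hfA (by
      intro c hc
      have := mem_centralizer_iff.mp hfF.2 c hc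
      rw [this]
      group) h1
    have h4 : t * (u ^ n * s⁻¹) * t⁻¹ = u ^ n * s⁻¹ := by
      have h5 : t * (u ^ n * s⁻¹) * t⁻¹ = (t * u * t⁻¹) ^ n * (t * s * t⁻¹)⁻¹ := by
        rw [← conj_pow_eq]
        group
      rw [h5, h1, h3, (show Commute u f from hAc u huA f hfA).mul_pow, mul_inv_rev]
      group
    calc t * (u ^ n * s⁻¹) = (t * (u ^ n * s⁻¹) * t⁻¹) * t := by group
      _ = (u ^ n * s⁻¹) * t := by rw [h4]
  have hxZT : u ^ n * s⁻¹ ∈ omegaOne p (T ⊓ centralizer (T : Set G)) :=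
    mem_omegaOne ⟨hZ0T hxZ0, hxT⟩ (pow_eq_one_of_mem_omegaOne (inf_centralizer_comm T₀) hxZ0)
  have hxC : u ^ n * s⁻¹ ∈ centralizer (C : Set G) := by
    rw [mem_centralizer_iff]
    intro c hc
    exact (mem_centralizer_iff.mp hc.2 _ hxZT).symm
  have hun : u ^ n ∈ Z0 ⊓ centralizer (C : Set G) := by
    have h1 : u ^ n = (u ^ n * s⁻¹) * s := by group
    rw [h1]
    exact mul_mem ⟨hxZ0, hxC⟩ ⟨hsZ0, hsC⟩
  exact huF (mem_of_pow_mem_of_not_dvd (p := p) _ hup hpn hun)

omit [Finite G] in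
theorem eq_one_of_pow_eq_one_of_not_dvd {Q : Subgroup G} (hQ : IsPGroup p Q) {w : G} (hw : w ∈ Q) {m : ℕ}
    (hm : ¬ p ∣ m) (h : w ^ m = 1) : w = 1 := by
  obtain ⟨j, hj⟩ := hQ ⟨w, hw⟩
  have hj' : w ^ p ^ j = 1 := by
    have := congrArg Subtype.val hj
    simpa using this
  have h1 : orderOf w ∣ Nat.gcd (p ^ j) m := Nat.dvd_gcd (orderOf_dvd_of_pow_eq_one hj') (orderOf_dvd_of_pow_eq_one h)
  have h2 : Nat.Coprime (p ^ j) m :=
    Nat.Coprime.pow_left j ((Nat.Prime.coprime_iff_not_dvd (Fact.out : p.Prime)).mpr hm)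
  rw [h2] at h1
  exact orderOf_eq_one_iff.mp (Nat.dvd_one.mp h1)

/-- the centralizer in `E ⊴ K` of `Q ∩ E` is a `p`-group, if `C_K(Q ∩ K) ≤ Q ∩ K` for a normal `p`-subgroup `Q` -/
theorem isPGroup_centralizer_step {K E Q : Subgroup G} [Q.Normal] (hQ : IsPGroup p Q)
    (hc : K ⊓ centralizer ((Q ⊓ K : Subgroup G) : Set G) ≤ Q ⊓ K) (hEK : E ≤ K) (hEn : K ≤ normalizer (E : Set G)) :
    IsPGroup p (E ⊓ centralizer ((Q ⊓ E : Subgroup G) : Set G) : Subgroup G) := by
  rintro ⟨k, hk⟩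
  obtain ⟨e, m, hm, hem⟩ := Nat.exists_eq_pow_mul_and_not_dvd (orderOf_pos k).ne' p (Fact.out : p.Prime).ne_one
  refine ⟨e, Subtype.ext ?_⟩
  show k ^ p ^ e = 1
  set k' := k ^ p ^ e with hk'
  have hk'm : k' ^ m = 1 := by
    rw [hk', ← pow_mul, ← hem]
    exact pow_orderOf_eq_one k
  have hk'mem : k' ∈ E ⊓ centralizer ((Q ⊓ E : Subgroup G) : Set G) := pow_mem hk _
  have h1 : k' ∈ centralizer ((Q ⊓ K : Subgroup G) : Set G) := by
    rw [mem_centralizer_iff]
    intro x hx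
    set w := x * k' * x⁻¹ * k'⁻¹ with hw
    have hwQ : w ∈ Q := by
      have h2 : w = x * (k' * x⁻¹ * k'⁻¹) := by rw [hw]; group
      rw [h2]
      exact mul_mem hx.1 (‹Q.Normal›.conj_mem _ (inv_mem hx.1) _)
    have hwE : w ∈ E := mul_mem ((mem_normalizer_iff.mp (hEn hx.2) k').mp hk'mem.1) (inv_mem hk'mem.1)
    have hwk : w * k' = k' * w := (mem_centralizer_iff.mp hk'mem.2 w ⟨hwQ, hwE⟩)
    have h3 : (w * k') ^ m = 1 := by
      have h4 : w * k' = x * k' * x⁻¹ := by rw [hw]; group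
      rw [h4, ← conj_pow_eq, hk'm]
      group
    rw [(show Commute w k' from hwk).mul_pow, hk'm, mul_one] at h3
    have h5 := eq_one_of_pow_eq_one_of_not_dvd hQ hwQ hm h3
    calc x * k' = w * k' * x := by rw [hw]; group
      _ = k' * x := by rw [h5, one_mul]
  exact eq_one_of_pow_eq_one_of_not_dvd hQ (hc ⟨hEK hk'mem.1, h1⟩).1 hm hk'm

/-- **Kieler lemma** with the invariants of the induction -/
theorem kieler_aux (hH : centralizer (pCore p G : Set G) ≤ pCore p G) (T : Sylow p G) (L : Subgroup G)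
    (hL : L.IsSubnormal) :
    (L ⊓ centralizer ((pCore p G ⊓ L : Subgroup G) : Set G) ≤ pCore p G ⊓ L) ∧
      ¬ p ∣ ((T : Subgroup G) ⊓ L).relIndex L ∧
      L ⊓ centralizer (omegaOne p ((T : Subgroup G) ⊓ centralizer ((T : Subgroup G) : Set G)) : Set G) =
        L ⊓ centralizer (omegaOne p (((T : Subgroup G) ⊓ L) ⊓
          centralizer ((((T : Subgroup G) ⊓ L) : Subgroup G) : Set G)) : Set G) := by
  have hQp : IsPGroup p (pCore p G) := T.2.to_le (pCore_le_sylow T)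
  induction hL with
  | top =>
    refine ⟨?_, ?_, ?_⟩
    · rw [inf_top_eq, top_inf_eq]
      exact hH
    · rw [inf_top_eq, relIndex_top_right]
      exact T.not_dvd_index
    · rw [inf_top_eq]
  | step E K hEK hK hN ih =>
    obtain ⟨ih1, ih2, ih3⟩ := ih
    have hEn : K ≤ normalizer (E : Set G) := (Subgroup.normal_subgroupOf_iff_le_normalizer hEK).mp hN
    have hE : E.IsSubnormal := Subgroup.IsSubnormal.step E K hEK hK hN
    have hQn : ∀ M : Subgroup G, M ≤ normalizer ((pCore p G ⊓ M : Subgroup G) : Set G) := by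
      intro M
      refine le_trans (le_inf ?_ le_normalizer) (normalizer_inf_le_normalizer_inf _ _)
      rw [normalizer_eq_top]
      exact le_top
    have h1 : E ⊓ centralizer ((pCore p G ⊓ E : Subgroup G) : Set G) ≤ pCore p G ⊓ E := by
      refine le_inf ?_ inf_le_left
      refine Cfsg.H9.subnormal_le_pCore p ?_ (isPGroup_centralizer_step hQp ih1 hEK hEn)
      refine Subgroup.IsSubnormal.step _ E inf_le_left hE ?_
      rw [Subgroup.normal_subgroupOf_iff_le_normalizer inf_le_left]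
      refine le_trans (le_inf le_normalizer ?_) (normalizer_inf_le_normalizer_inf _ _)
      exact (hQn E).trans (normalizer_le_normalizer_centralizer _)
    have hTE : ((T : Subgroup G) ⊓ K) ⊓ E = (T : Subgroup G) ⊓ E := by
      rw [inf_assoc, inf_eq_right.mpr hEK]
    have h2 : ¬ p ∣ ((T : Subgroup G) ⊓ E).relIndex E := by
      have := Cfsg.Agent.H12.sylow_rel_inf_normal (S := (T : Subgroup G) ⊓ K) inf_le_right (T.2.to_le inf_le_left) ih2
        hEK (fun x hx => Cfsg.Agent.H12.cj_eq_self (hEn hx))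
      rwa [hTE] at this
    refine ⟨h1, h2, ?_⟩
    have hA := kieler_A (p := p) (K := K) (E := E) (T := (T : Subgroup G) ⊓ K) (Q := pCore p G ⊓ K)
      (T₀ := (T : Subgroup G) ⊓ E) inf_le_right (inf_le_inf_right _ (pCore_le_sylow T)) (hQn K) ih1 hEK hEn hTE.symm h2
    have hKQE : K ≤ normalizer ((pCore p G ⊓ E : Subgroup G) : Set G) := by
      refine le_trans (le_inf ?_ hEn) (normalizer_inf_le_normalizer_inf _ _)
      rw [normalizer_eq_top]
      exact le_top
    have hB := kieler_B (p := p) (K := K) (E := E) (T := (T : Subgroup G) ⊓ K) (Q₀ := pCore p G ⊓ E)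
      (T₀ := (T : Subgroup G) ⊓ E) inf_le_right (T.2.to_le inf_le_left) hEK hEn hTE.symm h2
      (inf_le_inf_right _ (pCore_le_sylow T)) hKQE h1
    have h3 : E ⊓ centralizer (omegaOne p ((T : Subgroup G) ⊓ centralizer ((T : Subgroup G) : Set G)) : Set G) =
        E ⊓ centralizer (omegaOne p (((T : Subgroup G) ⊓ K) ⊓
          centralizer ((((T : Subgroup G) ⊓ K) : Subgroup G) : Set G)) : Set G) := by
      have h4 := congrArg (fun X => E ⊓ X) ih3
      rwa [← inf_assoc, ← inf_assoc, inf_eq_left.mpr hEK] at h4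
    rw [h3]
    exact le_antisymm (le_inf inf_le_left hB) (le_inf inf_le_left hA)

end Cfsg.Agent.Lib.Helper13
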