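import Mathlib
import Cfsg.Agent.Lib.Helper13.BSVar3
import Cfsg.Agent.Lib.Helper13.Kieler
import Cfsg.Agent.S0023

set_option autoImplicit false

/-! A variation on the Baer--Suzuki theorem for groups with a normal `p`-complement. -/

namespace Cfsg.Agent.Lib.Helper13

open Subgroup
open scoped commutatorElement

variable {G : Type*} [Group G] [Finite G] {p : ℕ} [Fact p.Prime]

theorem fac_of_pgroup (P : Sylow p G) (N : Subgroup G) (hN : (Nat.card N).Coprime p) (V : Subgroup G) (hVN : V ≤ N)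
    (hPV : (P : Subgroup G) ≤ normalizer (V : Set G)) {c d : G} (hc : c ∈ (P : Subgroup G)) (hd : d ∈ (P : Subgroup G))
    (x : G) (hx : x ∈ V) (h : IsPGroup p (closure ({x * c * x⁻¹, d} : Set G))) :
    ∃ a ∈ fx V d, ∃ b ∈ fx V c, x = a * b := by
  have hpN : ¬ p ∣ Nat.card N := (Nat.Prime.coprime_iff_not_dvd (Fact.out : p.Prime)).mp hN.symm
  have key : ∀ e ∈ (P : Subgroup G), ∀ t ∈ V, t * e * t⁻¹ ∈ (P : Subgroup G) → t ∈ fx V e := by
    intro e he t ht hte
    have h1 : t * e * t⁻¹ * e⁻¹ ∈ (P : Subgroup G) := mul_mem hte (inv_mem he)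
    have h2 : t * e * t⁻¹ * e⁻¹ ∈ V := by
      have : t * e * t⁻¹ * e⁻¹ = t * (e * t⁻¹ * e⁻¹) := by group
      rw [this]
      exact mul_mem ht ((mem_normalizer_iff.mp (hPV he) _).mp (inv_mem ht))
    have h3 : (t * e * t⁻¹ * e⁻¹) ^ Nat.card N = 1 := by
      have := pow_card_eq_one' (x := (⟨_, hVN h2⟩ : N))
      exact congrArg Subtype.val this
    have h4 := eq_one_of_pow_eq_one_of_not_dvd P.2 h1 hpN h3
    rw [mem_fx]
    refine ⟨ht, ?_⟩
    calc e * t * e⁻¹ = (t * e * t⁻¹ * e⁻¹)⁻¹ * t := by group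
      _ = t := by rw [h4]; simp
  have hR : closure ({x * c * x⁻¹, d} : Set G) ≤ (P : Subgroup G) ⊔ V := by
    rw [closure_le]
    rintro w (rfl | rfl)
    · exact mul_mem (mul_mem (le_sup_right (a := (P : Subgroup G)) hx) (le_sup_left (b := V) hc))
        (inv_mem (le_sup_right (a := (P : Subgroup G)) hx))
    · exact le_sup_left (b := V) hd
  have hidx : ¬ p ∣ (P : Subgroup G).relIndex ((P : Subgroup G) ⊔ V) := fun hdv =>
    P.not_dvd_index (hdv.trans (Subgroup.relIndex_dvd_index_of_le le_sup_left))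
  obtain ⟨g, hg, hle⟩ := Cfsg.Agent.H12.exists_conj_le_of_relIndex (T := (P : Subgroup G)) le_sup_left P.2 hidx hR h
  obtain ⟨u, hu, v, hv, rfl⟩ := mem_sup_of_le_normalizer hPV hg
  have hconj : ∀ w ∈ closure ({x * c * x⁻¹, d} : Set G), v * w * v⁻¹ ∈ (P : Subgroup G) := by
    intro w hw
    have h1 : (u * v) * w * (u * v)⁻¹ ∈ (P : Subgroup G) := hle ⟨w, hw, rfl⟩
    have h2 : v * w * v⁻¹ = u⁻¹ * ((u * v) * w * (u * v)⁻¹) * u := by group
    rw [h2]
    exact mul_mem (mul_mem (inv_mem hu) h1) hu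
  have h1 := key d hd v hv (hconj d (subset_closure (by simp)))
  have h2 := key c hc (v * x) (mul_mem hv hx) (by
    have := hconj (x * c * x⁻¹) (subset_closure (by simp))
    have e : v * x * c * (v * x)⁻¹ = v * (x * c * x⁻¹) * v⁻¹ := by group
    rwa [e])
  exact ⟨v⁻¹, inv_mem h1, v * x, h2, by group⟩

theorem exists_sylow_not_centralized {P N : Subgroup G} (hP : IsPGroup p P) (hPN : P ≤ normalizer (N : Set G))
    (hN : (Nat.card N).Coprime p) (hnc : ¬ N ≤ centralizer (P : Set G)) :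
    ∃ (r : ℕ) (_ : r.Prime) (R : Subgroup G), R ≤ N ∧ IsPGroup r R ∧ P ≤ normalizer (R : Set G) ∧
      ¬ R ≤ centralizer (P : Set G) := by
  by_contra hcon
  push Not at hcon
  apply hnc
  have hcop : (Nat.card P).Coprime (Nat.card N) := by
    obtain ⟨j, hj⟩ := IsPGroup.iff_card.mp hP
    rw [hj]
    exact Nat.Coprime.pow_left j hN.symm
  have hnil : Group.IsNilpotent P := hP.isNilpotent
  have hdvd : Nat.card N ∣ Nat.card (N ⊓ centralizer (P : Set G) : Subgroup G) := by
    rw [Nat.dvd_iff_prime_pow_dvd_dvd]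
    intro r k hr hk
    haveI : Fact r.Prime := ⟨hr⟩
    obtain ⟨R, hR⟩ := Cfsg.Agent.S0023.result P N hPN hcop (Or.inl inferInstance) r
    have h1 := hcon r hr _ (Subgroup.map_subtype_le (R : Subgroup N)) (R.2.map _) hR
    have h2 : Nat.card ((R : Subgroup N).map N.subtype) = r ^ (Nat.card N).factorization r := by
      rw [Subgroup.card_map_of_injective N.subtype_injective]
      exact R.card_eq_multiplicity
    have h3 : k ≤ (Nat.card N).factorization r :=
      (Nat.Prime.pow_dvd_iff_le_factorization hr Nat.card_pos.ne').mp hk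
    refine (pow_dvd_pow r h3).trans ?_
    rw [← h2]
    exact Subgroup.card_dvd_of_le (le_inf (Subgroup.map_subtype_le _) h1)
  have := Subgroup.eq_of_le_of_card_ge (inf_le_left : N ⊓ centralizer (P : Set G) ≤ N)
    (Nat.le_of_dvd Nat.card_pos hdvd)
  exact this ▸ inf_le_right

theorem exists_min_not_centralized {P : Subgroup G} (R : Subgroup G) (hPR : P ≤ normalizer (R : Set G))
    (hnc : ¬ R ≤ centralizer (P : Set G)) :
    ∃ V ≤ R, P ≤ normalizer (V : Set G) ∧ ¬ V ≤ centralizer (P : Set G) ∧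
      ∀ U : Subgroup G, U ≤ V → U ≠ V → P ≤ normalizer (U : Set G) → U ≤ centralizer (P : Set G) := by
  induction hn : Nat.card R using Nat.strong_induction_on generalizing R with
  | _ n ih =>
    by_cases h : ∀ U : Subgroup G, U ≤ R → U ≠ R → P ≤ normalizer (U : Set G) → U ≤ centralizer (P : Set G)
    · exact ⟨R, le_rfl, hPR, hnc, h⟩
    · push Not at h
      obtain ⟨U, hUR, hne, hPU, hU⟩ := h
      have hlt : Nat.card U < n := by
        rw [← hn]
        by_contra hcon
        push Not at hcon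
        exact hne (Subgroup.eq_of_le_of_card_ge hUR hcon)
      obtain ⟨V, hV, h1⟩ := ih _ hlt U hPU hU rfl
      exact ⟨V, hV.trans hUR, h1⟩

theorem normalizer_le_normalizer_commutator_self (V : Subgroup G) :
    normalizer (V : Set G) ≤ normalizer ((⁅V, V⁆ : Subgroup G) : Set G) := by
  intro g hg
  rw [Subgroup.mem_normalizer_iff_map_conj_eq, Subgroup.map_commutator,
    Subgroup.mem_normalizer_iff_map_conj_eq.mp hg]

theorem bs_variation (hp2 : p ≠ 2) (P : Sylow p G) (N : Subgroup G) [N.Normal] (hN : (Nat.card N).Coprime p)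
    (C D : Set G) (hC : closure C = (P : Subgroup G)) (hD : closure D = (P : Subgroup G))
    (h : ∀ x ∈ N, ∀ c ∈ C, ∀ d ∈ D, IsPGroup p ↥(closure ({x * c * x⁻¹, d} : Set G))) :
    ⁅(P : Subgroup G), N⁆ = ⊥ := by
  rw [Subgroup.commutator_eq_bot_iff_le_centralizer, le_centralizer_iff]
  by_contra hnc
  have hPN : (P : Subgroup G) ≤ normalizer (N : Set G) := by
    rw [normalizer_eq_top]; exact le_top
  obtain ⟨r, hr, R, hRN, hR, hPR, hRnc⟩ := exists_sylow_not_centralized P.2 hPN hN hnc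
  obtain ⟨V, hVR, hPV, hVnc, hmin⟩ := exists_min_not_centralized R hPR hRnc
  haveI : Fact r.Prime := ⟨hr⟩
  have hnil : Group.IsNilpotent V := (hR.to_le hVR).isNilpotent
  have cfg : BSCfg p (P : Subgroup G) V := by
    refine ⟨P.2, hPV, Nat.Coprime.coprime_dvd_left (Subgroup.card_dvd_of_le (hVR.trans hRN)) hN, hVnc, hmin, ?_⟩
    apply hmin _ (Subgroup.commutator_le_self V)
    · intro he
      have := eq_bot_of_le_commutator_nilpotent (N := V) (W := V) le_rfl (le_of_eq he.symm)
      apply hVnc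
      rw [this]
      exact bot_le
    · exact hPV.trans (normalizer_le_normalizer_commutator_self V)
  refine cfg.false hp2 C D hC hD ?_
  intro c hc d hd x hx
  exact fac_of_pgroup P N hN V (hVR.trans hRN) hPV (hC ▸ subset_closure hc) (hD ▸ subset_closure hd) x hx
    (h x (hRN (hVR hx)) c hc d hd)

end Cfsg.Agent.Lib.Helper13
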