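import Cfsg.Agent.Lib.Helper13.CardSup
import Cfsg.Prelude.Def_LocalEven

set_option autoImplicit false
open Cfsg

/-! Sections: closure properties of `Involves`, and the construction of a section `S₄`. -/

namespace Cfsg.Agent.Lib.Helper13

open Subgroup
open scoped commutatorElement

variable {G : Type*} [Group G] {H : Type*} [Group H]

theorem involves_iff : Involves H G ↔ ∃ (K : Subgroup G) (f : K →* H), Function.Surjective f := by
  constructor
  · rintro ⟨K, R, hR, ⟨e⟩⟩
    exact ⟨K, e.toMonoidHom.comp (QuotientGroup.mk' _), e.surjective.comp (QuotientGroup.mk'_surjective _)⟩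
  · rintro ⟨K, f, hf⟩
    have e : (f.ker.map K.subtype).subgroupOf K = f.ker :=
      Subgroup.comap_map_eq_self_of_injective K.subtype_injective _
    have hn : ((f.ker.map K.subtype).subgroupOf K).Normal := by rw [e]; infer_instance
    exact ⟨K, f.ker.map K.subtype, hn,
      ⟨(QuotientGroup.quotientMulEquivOfEq e).trans (QuotientGroup.quotientKerEquivOfSurjective f hf)⟩⟩

theorem Involves.of_subgroup {M : Subgroup G} (h : Involves H M) : Involves H G := by
  obtain ⟨K, f, hf⟩ := involves_iff.mp h
  refine involves_iff.mpr ⟨K.map M.subtype,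
    f.comp (K.equivMapOfInjective M.subtype M.subtype_injective).symm.toMonoidHom, ?_⟩
  exact hf.comp (MulEquiv.surjective _)

theorem Involves.of_surjective {G' : Type*} [Group G'] (g : G →* G') (hg : Function.Surjective g)
    (h : Involves H G') : Involves H G := by
  obtain ⟨K, f, hf⟩ := involves_iff.mp h
  exact involves_iff.mpr ⟨K.comap g, f.comp (g.subgroupComap K),
    hf.comp (g.subgroupComap_surjective_of_surjective K hg)⟩

theorem Involves.of_quotient {N : Subgroup G} [N.Normal] (h : Involves H (G ⧸ N)) : Involves H G :=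
  Involves.of_surjective (QuotientGroup.mk' N) (QuotientGroup.mk'_surjective N) h

/-- a split extension of a group of order `4` by a group inducing `6` automorphisms has the quotient `S₄` -/
theorem involves_S4_of_split [Finite G] {W D : Subgroup G} (hDW : D ≤ normalizer (W : Set G)) (hWD : W ⊓ D = ⊥)
    (hW : Nat.card W = 4) (hidx : (D ⊓ centralizer (W : Set G)).relIndex D = 6) :
    Involves (Equiv.Perm (Fin 4)) G := by
  set K := W ⊔ D with hK
  set E := D ⊓ centralizer (W : Set G) with hE
  have hcK : Nat.card K = 4 * Nat.card D := by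
    have h1 := card_sup_mul_card_inf D W hDW
    rw [inf_comm, hWD, card_bot, mul_one, sup_comm, hW, mul_comm] at h1
    exact h1
  have hcD : Nat.card D = 6 * Nat.card E := by
    rw [← hidx]
    exact (relIndex_mul_card' inf_le_left).symm
  have hDK : D ≤ K := le_sup_right
  have hidx4 : Nat.card (K ⧸ D.subgroupOf K) = 4 := by
    have h1 := relIndex_mul_card' hDK
    rw [hcK] at h1
    exact Nat.eq_of_mul_eq_mul_right Nat.card_pos h1
  let e : (K ⧸ D.subgroupOf K) ≃ Fin 4 := Finite.equivFinOfCardEq hidx4
  let f : K →* Equiv.Perm (Fin 4) :=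
    (Equiv.permCongrHom e).toMonoidHom.comp (MulAction.toPermHom K (K ⧸ D.subgroupOf K))
  have hker : f.ker ≤ E.subgroupOf K := by
    intro x hx
    have h1 : x ∈ (MulAction.toPermHom K (K ⧸ D.subgroupOf K)).ker := by
      rw [MonoidHom.mem_ker] at hx ⊢
      exact (Equiv.permCongrHom e).injective (by rw [map_one]; exact hx)
    rw [← normalCore_eq_ker] at h1
    have h2 : ∀ k : K, k * x * k⁻¹ ∈ D.subgroupOf K := fun k => by
      have := (normalCore_normal (D.subgroupOf K)).conj_mem x h1 k
      exact normalCore_le _ this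
    have hxD : (x : G) ∈ D := by
      have := h2 1
      simpa [mem_subgroupOf] using this
    rw [mem_subgroupOf]
    refine mem_inf.mpr ⟨hxD, ?_⟩
    rw [mem_centralizer_iff]
    intro w hw
    have h3 : w * x * w⁻¹ ∈ D := by
      have := h2 ⟨w, (le_sup_left : W ≤ K) hw⟩
      simpa [mem_subgroupOf] using this
    have h4 : w * x * w⁻¹ * (x : G)⁻¹ ∈ W ⊓ D := by
      refine mem_inf.mpr ⟨?_, mul_mem h3 (inv_mem hxD)⟩
      have h5 : (x : G) * w⁻¹ * (x : G)⁻¹ ∈ W :=
        (mem_normalizer_iff.mp (hDW hxD) w⁻¹).mp (inv_mem hw)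
      have h6 : w * x * w⁻¹ * (x : G)⁻¹ = w * ((x : G) * w⁻¹ * (x : G)⁻¹) := by group
      rw [h6]
      exact mul_mem hw h5
    rw [hWD, mem_bot] at h4
    have h7 : w * x = (w * x * w⁻¹ * (x : G)⁻¹) * (x * w) := by group
    rw [h7, h4, one_mul]
  refine involves_iff.mpr ⟨K, f, ?_⟩
  rw [← MonoidHom.range_eq_top]
  apply eq_top_of_le_card
  have h1 : Nat.card (Equiv.Perm (Fin 4)) = 24 := by
    rw [Nat.card_eq_fintype_card, Fintype.card_perm, Fintype.card_fin]
    rfl
  rw [h1]
  have h2 : Nat.card f.range * Nat.card f.ker = Nat.card K := by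
    rw [← Nat.card_congr (QuotientGroup.quotientKerEquivRange f).toEquiv]
    exact (card_eq_card_quotient_mul_card_subgroup f.ker).symm
  have h3 : Nat.card f.ker ≤ Nat.card E := by
    calc Nat.card f.ker ≤ Nat.card (E.subgroupOf K) := card_le_of_le hker
      _ = Nat.card E := Nat.card_congr (subgroupOfEquivOfLe (inf_le_left.trans hDK)).toEquiv
  have h4 : 0 < Nat.card f.ker := Nat.card_pos
  rw [hcK, hcD] at h2
  by_contra hlt
  push Not at hlt
  have : Nat.card f.range * Nat.card f.ker ≤ 23 * Nat.card E :=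
    Nat.mul_le_mul (by omega) h3
  have h5 : 0 < Nat.card E := Nat.card_pos
  omega

/-- a normal subgroup of order `4` on which the group induces `6` automorphisms gives a section `S₄` -/
theorem involves_S4_of_normal [Finite G] (W : Subgroup G) [W.Normal] (hW : Nat.card W = 4)
    (hidx : (centralizer (W : Set G)).index = 6) : Involves (Equiv.Perm (Fin 4)) G := by
  have : Fact (Nat.Prime 3) := ⟨Nat.prime_three⟩
  set K0 := centralizer (W : Set G) with hK0
  have hcQ : Nat.card (G ⧸ K0) = 6 := hidx
  obtain ⟨x, hx⟩ := exists_prime_orderOf_dvd_card' (G := G ⧸ K0) 3 (by rw [hcQ]; norm_num)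
  have hP3 : (zpowers x).index = 2 := by
    have h1 := (zpowers x).card_mul_index
    rw [Nat.card_zpowers, hx, hcQ] at h1
    omega
  have hP3n : (zpowers x).Normal := normal_of_index_eq_two hP3
  set M := (zpowers x).comap (QuotientGroup.mk' K0) with hM
  have hMidx : M.index = 2 := by
    rw [hM, index_comap_of_surjective _ (QuotientGroup.mk'_surjective K0), hP3]
  have hK0M : K0 ≤ M := by
    conv_lhs => rw [← QuotientGroup.ker_mk' K0]
    exact MonoidHom.ker_le_comap _ _
  have hrel : K0.relIndex M = 3 := by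
    have h1 := relIndex_mul_index hK0M
    rw [hMidx, hidx] at h1
    omega
  obtain ⟨R⟩ : Nonempty (Sylow 3 M) := inferInstance
  set R1 := (R : Subgroup M).map M.subtype with hR1
  have hR1p : IsPGroup 3 R1 := R.2.map _
  have hR1M : R1 ≤ M := map_subtype_le _
  have hfr : normalizer (R1 : Set G) ⊔ M = ⊤ := Sylow.normalizer_sup_eq_top R
  set D := normalizer (R1 : Set G) with hD
  have hR1K0 : ¬ R1 ≤ K0 := by
    intro h
    have h1 : (R : Subgroup M) ≤ K0.subgroupOf M := by
      intro y hy
      exact h ⟨y, hy, rfl⟩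
    have h2 : (3 : ℕ) ∣ (R : Subgroup M).index := by
      have := index_dvd_of_le h1
      rwa [show (K0.subgroupOf M).index = 3 from hrel] at this
    exact R.not_dvd_index h2
  have hMeq : M ≤ K0 ⊔ R1 := by
    have h1 := relIndex_mul_relIndex K0 (K0 ⊔ R1) M le_sup_left (sup_le hK0M hR1M)
    rw [hrel] at h1
    rcases (Nat.dvd_prime Nat.prime_three).mp (Dvd.intro_left _ h1) with h2 | h2
    · exact relIndex_eq_one.mp h2
    · exfalso
      rw [h2] at h1
      have h3 : K0.relIndex (K0 ⊔ R1) = 1 := by omega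
      exact hR1K0 (le_sup_right.trans (relIndex_eq_one.mp h3))
  have hDK0 : D ⊔ K0 = ⊤ := by
    rw [eq_top_iff, ← hfr]
    refine sup_le le_sup_left (hMeq.trans (sup_le le_sup_right (le_normalizer.trans le_sup_left)))
  have hDidx : (D ⊓ K0).relIndex D = 6 := by
    rw [inf_comm, inf_relIndex_right, ← relIndex_sup_right, hDK0, relIndex_top_right, hidx]
  have hWR : W ⊓ R1 = ⊥ := by
    have hcop : (Nat.card W).Coprime (Nat.card R1) := by
      obtain ⟨k, hk⟩ := hR1p.exists_card_eq
      rw [hW, hk]
      exact Nat.Coprime.pow_right k (by norm_num)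
    exact (disjoint_of_coprime_natCard hcop).eq_bot
  have hF : W ⊓ centralizer (R1 : Set G) = ⊥ := by
    set F := W ⊓ centralizer (R1 : Set G) with hFdef
    letI act : MulAction R1 W := MulAction.compHom W ((MulAut.conjNormal (H := W)).comp R1.subtype)
    have hact : ∀ (r : R1) (w : W), ((r • w : W) : G) = r * w * (r : G)⁻¹ := fun r w => rfl
    have h1 := hR1p.card_modEq_card_fixedPoints W
    have h2 : ((F.subgroupOf W : Subgroup W) : Set W) = MulAction.fixedPoints R1 W := by
      ext w
      rw [SetLike.mem_coe, mem_subgroupOf, MulAction.mem_fixedPoints]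
      constructor
      · intro hw r
        apply Subtype.ext
        rw [hact, mem_centralizer_iff.mp hw.2 r r.2, mul_inv_cancel_right]
      · intro hw
        refine mem_inf.mpr ⟨w.2, ?_⟩
        rw [mem_centralizer_iff]
        intro r hr
        have h3 := congrArg Subtype.val (hw ⟨r, hr⟩)
        rw [hact] at h3
        conv_rhs => rw [← h3]
        group
    have h3 : Nat.card (MulAction.fixedPoints R1 W) = Nat.card F := by
      rw [← h2]
      exact Nat.card_congr (subgroupOfEquivOfLe inf_le_left).toEquiv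
    rw [h3, hW] at h1
    have h4 : Nat.card F ∣ 4 := hW ▸ card_dvd_of_le inf_le_left
    have h5 : Nat.card F ≤ 4 := Nat.le_of_dvd (by norm_num) h4
    have h6 : Nat.card F = 1 ∨ Nat.card F = 4 := by
      unfold Nat.ModEq at h1
      have : 0 < Nat.card F := Nat.card_pos
      interval_cases (Nat.card F) <;> simp_all
    rcases h6 with h6 | h6
    · exact card_eq_one.mp h6
    · exfalso
      have h7 : F = W := eq_of_le_of_card_ge inf_le_left (by rw [h6, hW])
      apply hR1K0
      rw [hK0, le_centralizer_iff]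
      rw [← h7]
      exact inf_le_right
  have hWD : W ⊓ D = ⊥ := by
    rw [eq_bot_iff, ← hF]
    refine le_inf inf_le_left ?_
    rintro w ⟨hw, hwD⟩
    rw [mem_centralizer_iff]
    intro r hr
    have h1 : w * r * w⁻¹ * r⁻¹ ∈ W ⊓ R1 := by
      refine mem_inf.mpr ⟨?_, mul_mem ((mem_normalizer_iff.mp hwD r).mp hr) (inv_mem hr)⟩
      have h2 : w * r * w⁻¹ * r⁻¹ = w * (r * w⁻¹ * r⁻¹) := by group
      rw [h2]
      exact mul_mem hw (‹W.Normal›.conj_mem _ (inv_mem hw) r)
    rw [hWR, mem_bot] at h1
    have h3 : w * r = (w * r * w⁻¹ * r⁻¹) * (r * w) := by group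
    rw [h3, h1, one_mul]
  exact involves_S4_of_split (by rw [normalizer_eq_top]; exact le_top) hWD hW hDidx

end Cfsg.Agent.Lib.Helper13
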