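import Cfsg.Agent.H12.Dk25
import Cfsg.Agent.Lib.Helper13.S4Sec

set_option autoImplicit false
open Cfsg

/-! Groups of odd order are `p`-stable (they do not involve `SL₂(p)`). -/

universe u

namespace Cfsg.Agent.Lib.Helper13

open Subgroup Matrix
open scoped commutatorElement

theorem card_dvd_of_involves {G : Type*} [Group G] [Finite G] {H : Type*} [Group H] (h : Involves H G) :
    Nat.card H ∣ Nat.card G := by
  obtain ⟨K, f, hf⟩ := involves_iff.mp h
  exact (Subgroup.card_dvd_of_surjective f hf).trans (Subgroup.card_subgroup_dvd_card K)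

theorem two_dvd_card_SL2 (p : ℕ) [Fact p.Prime] (hp : p ≠ 2) :
    2 ∣ Nat.card (SpecialLinearGroup (Fin 2) (ZMod p)) := by
  have hne : (-1 : SpecialLinearGroup (Fin 2) (ZMod p)) ≠ 1 := by
    intro h
    have h1 := congrArg (fun M : SpecialLinearGroup (Fin 2) (ZMod p) => (M : Matrix (Fin 2) (Fin 2) (ZMod p)) 0 0) h
    have h1' : (-1 : ZMod p) = 1 := by simpa using h1
    have h2 : (2 : ZMod p) = 0 := by
      have : (1 : ZMod p) + 1 = 0 := by nth_rewrite 1 [← h1']; ring
      rw [← this]; norm_num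
    have h3 : ((2 : ℕ) : ZMod p) = 0 := by exact_mod_cast h2
    rw [ZMod.natCast_eq_zero_iff] at h3
    exact hp ((Nat.prime_dvd_prime_iff_eq Fact.out Nat.prime_two).mp h3)
  have hsq : (-1 : SpecialLinearGroup (Fin 2) (ZMod p)) ^ 2 = 1 := by
    rw [sq]; simp
  have ho : orderOf (-1 : SpecialLinearGroup (Fin 2) (ZMod p)) = 2 := orderOf_eq_prime hsq hne
  have := orderOf_dvd_natCard (-1 : SpecialLinearGroup (Fin 2) (ZMod p))
  rwa [ho] at this

theorem not_cq_of_odd {G : Type u} [Group G] [Finite G] (hodd : Odd (Nat.card G)) (p : ℕ) [Fact p.Prime]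
    (hp : p ≠ 2) : ¬ Cfsg.Agent.H12.Dk.Cq p G := by
  rintro ⟨-, P₀, -, -, h⟩
  have h1 := card_dvd_of_involves (Involves.of_subgroup h)
  have h2 := (two_dvd_card_SL2 p hp).trans h1
  exact (Nat.not_even_iff_odd.mpr hodd) (even_iff_two_dvd.mpr h2)

theorem isNormalizerPStable_of_odd {G : Type u} [Group G] [Finite G] (hodd : Odd (Nat.card G)) (p : ℕ)
    [Fact p.Prime] (hp : p ≠ 2) : IsNormalizerPStable p G := by
  by_contra h
  exact not_cq_of_odd hodd p hp (Cfsg.Agent.H12.Dk.cq_of_not_stable hp h)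

end Cfsg.Agent.Lib.Helper13
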