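import Cfsg.Agent.Lib.Helper13.OddQuad
import Cfsg.Agent.Lib.Helper13.Glaub5
import Cfsg.Agent.Lib.Helper13.JFun
import Cfsg.Agent.H17.ZJClosed

set_option autoImplicit false
open Cfsg

/-! Abelian subgroups normalized by `O_p` in a `p`-stable, `p`-constrained group. -/

universe u

namespace Cfsg.Agent.Lib.Helper13

open Subgroup
open scoped commutatorElement

theorem abelian_le_pCore {G : Type*} [Group G] [Finite G] {p : ℕ} [Fact p.Prime]
    (hc : centralizer (pCore p G : Set G) ≤ pCore p G) (hst : IsPStableOn p (pCore p G))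
    {A : Subgroup G} (hAc : ∀ a ∈ A, ∀ b ∈ A, a * b = b * a) (hAn : pCore p G ≤ normalizer (A : Set G)) :
    A ≤ pCore p G := by
  intro z hz
  have hzz : zpowers z ≤ A := zpowers_le.mpr hz
  have h1 : ⁅pCore p G, zpowers z⁆ ≤ A :=
    (commutator_mono le_rfl hzz).trans (le_normalizer_iff_commutator_le_right.mp hAn)
  have h2 : ⁅A, A⁆ = ⊥ := by
    rw [commutator_eq_bot_iff_le_centralizer]
    intro u hu
    rw [mem_centralizer_iff]
    exact fun v hv => hAc v hv u hu
  have h3 : z ∈ stabD p (pCore p G) := hst z (le_bot_iff.mp (h2 ▸ commutator_mono h1 hzz))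
  exact Cfsg.H1.le_pCore (stabD_normal _) (isPGroup_stabD_pCore hc) h3

/-- general form: `G / O_{p'}(G)` constrained and stable -/
theorem abelian_le_pPrimePCore {G : Type*} [Group G] [Finite G] {p : ℕ} [Fact p.Prime]
    (hc : centralizer (pCore p (G ⧸ pPrimeCore p G) : Set (G ⧸ pPrimeCore p G)) ≤ pCore p (G ⧸ pPrimeCore p G))
    (hst : IsPStableOn p (pCore p (G ⧸ pPrimeCore p G)))
    (S : Sylow p G) {A : Subgroup G} (hAc : ∀ a ∈ A, ∀ b ∈ A, a * b = b * a)
    (hAn : (S : Subgroup G) ≤ normalizer (A : Set G)) : A ≤ pPrimePCore p G := by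
  set π := QuotientGroup.mk' (pPrimeCore p G) with hπ
  have hπs : Function.Surjective π := QuotientGroup.mk'_surjective _
  have h1 : A.map π ≤ pCore p (G ⧸ pPrimeCore p G) := by
    apply abelian_le_pCore hc hst
    · rintro _ ⟨a, ha, rfl⟩ _ ⟨b, hb, rfl⟩
      rw [← map_mul, ← map_mul, hAc a ha b hb]
    · have h2 : pCore p (G ⧸ pPrimeCore p G) ≤ ((S.mapSurjective hπs : Sylow p _) : Subgroup _) := pCore_le_sylow _
      rw [Sylow.coe_mapSurjective] at h2
      exact h2.trans ((map_mono hAn).trans (le_normalizer_map π))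
  unfold pPrimePCore
  exact map_le_iff_le_comap.mp h1

end Cfsg.Agent.Lib.Helper13
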