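import Cfsg.Agent.S1467
import Cfsg.Agent.H4.Nilp

set_option autoImplicit false
open Cfsg

/-! Relative Puig series inside an ambient group. -/

namespace Cfsg.Agent.Lib.Helper13

open Subgroup

variable {G : Type*} [Group G]

/-- the subgroup generated by the abelian subgroups of `H` normalized by `X`. -/
def pStepIn (H X : Subgroup G) : Subgroup G :=
  sSup {A : Subgroup G | A ≤ H ∧ IsMulCommutative A ∧ X ≤ normalizer (A : Set G)}

def pSeqIn (H : Subgroup G) : ℕ → Subgroup G
  | 0 => ⊥
  | n + 1 => pStepIn H (pSeqIn H n)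

theorem pStepIn_le (H X : Subgroup G) : pStepIn H X ≤ H := sSup_le fun _ hA => hA.1

theorem pSeqIn_le (H : Subgroup G) (n : ℕ) : pSeqIn H n ≤ H := by
  cases n with
  | zero => exact bot_le
  | succ n => exact pStepIn_le _ _

theorem le_pStepIn {H X A : Subgroup G} (h1 : A ≤ H) (h2 : IsMulCommutative A)
    (h3 : X ≤ normalizer (A : Set G)) : A ≤ pStepIn H X := le_sSup ⟨h1, h2, h3⟩

theorem pStepIn_top (X : Subgroup G) : pStepIn ⊤ X = puigStep X := by
  unfold pStepIn puigStep
  congr 1
  ext A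
  simp

theorem pSeqIn_top (n : ℕ) : pSeqIn (⊤ : Subgroup G) n = puigSeq G n := by
  induction n with
  | zero => rfl
  | succ n ih =>
    change pStepIn ⊤ (pSeqIn ⊤ n) = puigStep (puigSeq G n)
    rw [ih, pStepIn_top]

theorem pStepIn_map {G' : Type*} [Group G'] (f : G →* G') (hf : Function.Injective f) (H X : Subgroup G) :
    (pStepIn H X).map f = pStepIn (H.map f) (X.map f) := by
  apply le_antisymm
  · rw [map_le_iff_le_comap]
    refine sSup_le ?_
    rintro A ⟨h1, h2, h3⟩
    rw [← map_le_iff_le_comap]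
    refine le_pStepIn (map_mono h1) ?_ ?_
    · refine ⟨⟨?_⟩⟩
      rintro ⟨_, a, ha, rfl⟩ ⟨_, b, hb, rfl⟩
      apply Subtype.ext
      change f a * f b = f b * f a
      rw [← map_mul, ← map_mul]
      exact congrArg f (congrArg Subtype.val (h2.is_comm.comm ⟨a, ha⟩ ⟨b, hb⟩))
    · rintro _ ⟨x, hx, rfl⟩
      have hx' := h3 hx
      rw [mem_normalizer_iff] at hx' ⊢
      intro y
      constructor
      · rintro ⟨a, ha, rfl⟩
        exact ⟨x * a * x⁻¹, (hx' a).mp ha, by simp⟩
      · rintro ⟨b, hb, hb'⟩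
        refine ⟨x⁻¹ * b * x, ?_, ?_⟩
        · rw [SetLike.mem_coe, hx']
          simpa [mul_assoc] using hb
        · rw [map_mul, map_mul, hb', map_inv]
          group
  · refine sSup_le ?_
    rintro B ⟨h1, h2, h3⟩
    have hB : (B.comap f).map f = B := by
      rw [map_comap_eq_self]
      exact h1.trans (map_le_range f H)
    rw [← hB]
    apply map_mono
    refine le_pStepIn ?_ ?_ ?_
    · have := comap_mono (f := f) h1
      rwa [comap_map_eq_self_of_injective hf] at this
    · refine ⟨⟨?_⟩⟩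
      rintro ⟨a, ha⟩ ⟨b, hb⟩
      apply Subtype.ext
      apply hf
      change f (a * b) = f (b * a)
      rw [map_mul, map_mul]
      exact congrArg Subtype.val (h2.is_comm.comm ⟨f a, ha⟩ ⟨f b, hb⟩)
    · intro x hx
      have hx' := h3 (mem_map_of_mem f hx)
      rw [mem_normalizer_iff] at hx' ⊢
      intro a
      rw [mem_comap, mem_comap, hx' (f a)]
      simp

theorem pSeqIn_map {G' : Type*} [Group G'] (f : G →* G') (hf : Function.Injective f) (H : Subgroup G) (n : ℕ) :
    (pSeqIn H n).map f = pSeqIn (H.map f) n := by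
  induction n with
  | zero => exact map_bot f
  | succ n ih =>
    change (pStepIn H (pSeqIn H n)).map f = pStepIn (H.map f) (pSeqIn (H.map f) n)
    rw [pStepIn_map f hf, ih]

theorem puigSeq_map_subtype (H : Subgroup G) (n : ℕ) :
    (puigSeq ↥H n).map H.subtype = pSeqIn H n := by
  rw [← pSeqIn_top, pSeqIn_map _ H.subtype_injective, ← MonoidHom.range_eq_map, H.range_subtype]

theorem puigSeq_map_equiv {G' : Type*} [Group G'] (φ : G ≃* G') (n : ℕ) :
    (puigSeq G n).map φ.toMonoidHom = puigSeq G' n := by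
  rw [← pSeqIn_top, pSeqIn_map _ φ.injective, ← MonoidHom.range_eq_map, ← pSeqIn_top]
  congr 1
  exact MonoidHom.range_eq_top.mpr φ.surjective

theorem pStepIn_anti {H X Y : Subgroup G} (h : X ≤ Y) : pStepIn H Y ≤ pStepIn H X :=
  sSup_le fun _ hA => le_pStepIn hA.1 hA.2.1 (h.trans hA.2.2)

theorem pSeqIn_normal (H : Subgroup G) [hH : H.Normal] (n : ℕ) : (pSeqIn H n).Normal := by
  constructor
  intro x hx g
  have h1 := pSeqIn_map (MulAut.conj g).toMonoidHom (MulAut.conj g).injective H n
  have h2 : H.map (MulAut.conj g).toMonoidHom = H := by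
    exact (normal_iff_map_conj_eq.mp hH) g
  rw [h2] at h1
  rw [← h1]
  exact ⟨x, hx, rfl⟩

end Cfsg.Agent.Lib.Helper13
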