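import Cfsg.Agent.Lib.Helper13.Puig1
import Cfsg.Agent.Lib.Helper13.Offender

set_option autoImplicit false
open Cfsg

/-! The terms of the Puig series of a `p`-group are self-centralizing. -/

namespace Cfsg.Agent.Lib.Helper13

open Subgroup

theorem exists_normal_abelian_self_centralizing (R : Type*) [Group R] [Finite R] [Group.IsNilpotent R] :
    ∃ A : Subgroup R, A.Normal ∧ IsMulCommutative A ∧ centralizer (A : Set R) ≤ A := by
  obtain ⟨A, hA⟩ := (Set.toFinite {A : Subgroup R | A.Normal ∧ IsMulCommutative A}).exists_maximal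
    ⟨⊥, inferInstance, ⟨⟨fun a b => Subsingleton.elim _ _⟩⟩⟩
  obtain ⟨⟨hAn, hAc⟩, hmax⟩ := hA
  refine ⟨A, hAn, hAc, ?_⟩
  by_contra hcon
  have hAC : A ≤ centralizer (A : Set R) := by
    intro u hu
    rw [mem_centralizer_iff]
    intro v hv
    exact congrArg Subtype.val (hAc.is_comm.comm ⟨v, hv⟩ ⟨u, hu⟩)
  set π := QuotientGroup.mk' A with hπ
  have hπs : Function.Surjective π := QuotientGroup.mk'_surjective A
  have hMn : ((centralizer (A : Set R)).map π).Normal := Normal.map inferInstance π hπs
  have hM : (centralizer (A : Set R)).map π ≠ ⊥ := by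
    intro h
    apply hcon
    rw [Subgroup.map_eq_bot_iff, QuotientGroup.ker_mk'] at h
    exact h
  have h1 := Cfsg.Agent.H4.normal_inf_center_ne_bot _ hM
  obtain ⟨⟨y, hy⟩, hy1'⟩ := Subgroup.ne_bot_iff_exists_ne_one.mp h1
  have hy1 : y ≠ 1 := fun h => hy1' (Subtype.ext h)
  obtain ⟨⟨x, hx, rfl⟩, hyc⟩ := hy
  have hxA : x ∉ A := by
    intro h
    apply hy1
    exact (QuotientGroup.eq_one_iff x).mpr h
  set B := A ⊔ zpowers x with hB
  have hBc : B ≤ centralizer (B : Set R) := by
    rw [hB, centralizer_sup]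
    apply sup_le
    · refine le_inf hAC ?_
      rw [le_centralizer_iff, zpowers_le]
      exact hx
    · rw [zpowers_le]
      refine mem_inf.mpr ⟨hx, ?_⟩
      rw [mem_centralizer_iff]
      intro v hv
      obtain ⟨k, rfl⟩ := mem_zpowers_iff.mp hv
      exact ((Commute.refl x).zpow_left k).eq
  have hBn : B.Normal := by
    rw [← normalizer_eq_top_iff, eq_top_iff]
    intro g _
    have hconj : ∀ g : R, ∀ b ∈ B, g * b * g⁻¹ ∈ B := by
      intro g b hb
      have : B ≤ B.comap (MulAut.conj g).toMonoidHom := by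
        rw [hB]
        apply sup_le
        · intro a ha
          exact le_sup_left (a := A) (hAn.conj_mem a ha g)
        · rw [zpowers_le]
          change g * x * g⁻¹ ∈ A ⊔ zpowers x
          have h2 : g * x * g⁻¹ * x⁻¹ ∈ A := by
            rw [← QuotientGroup.eq_one_iff]
            change π (g * x * g⁻¹ * x⁻¹) = 1
            have h3 := (mem_center_iff.mp hyc) (π g)
            rw [map_mul, map_mul, map_mul, h3, map_inv, map_inv]
            group
          have h4 : g * x * g⁻¹ = (g * x * g⁻¹ * x⁻¹) * x := by group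
          rw [h4]
          exact mul_mem (le_sup_left (a := A) h2) (le_sup_right (a := A) (mem_zpowers x))
      exact this hb
    rw [mem_normalizer_iff]
    intro b
    refine ⟨hconj g b, fun h => ?_⟩
    have := hconj g⁻¹ _ h
    simpa [mul_assoc] using this
  have hBcomm : IsMulCommutative B := by
    refine ⟨⟨?_⟩⟩
    rintro ⟨a, ha⟩ ⟨b, hb⟩
    apply Subtype.ext
    exact ((mem_centralizer_iff.mp (hBc hb)) a ha)
  have := hmax ⟨hBn, hBcomm⟩ le_sup_left
  exact hxA (this (le_sup_right (a := A) (mem_zpowers x)))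

theorem centralizer_puigStep_le {R : Type*} [Group R] [Finite R] [Group.IsNilpotent R] (X : Subgroup R) :
    centralizer (puigStep X : Set R) ≤ puigStep X := by
  obtain ⟨A, hAn, hAc, hA⟩ := exists_normal_abelian_self_centralizing R
  have h1 : A ≤ puigStep X := le_sSup ⟨hAc, by rw [normalizer_eq_top_iff.mpr hAn]; exact le_top⟩
  exact (centralizer_le h1).trans (hA.trans h1)

theorem centralizer_puigSeq_le {R : Type*} [Group R] [Finite R] [Group.IsNilpotent R] (n : ℕ) :
    centralizer (puigSeq R (n + 1) : Set R) ≤ puigSeq R (n + 1) := centralizer_puigStep_le _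

theorem centralizer_pSeqIn_le {G : Type*} [Group G] [Finite G] (T : Subgroup G) [Group.IsNilpotent T] (n : ℕ) :
    T ⊓ centralizer (pSeqIn T (n + 1) : Set G) ≤ pSeqIn T (n + 1) := by
  intro x hx
  rw [← puigSeq_map_subtype]
  refine ⟨⟨x, hx.1⟩, centralizer_puigSeq_le n ?_, rfl⟩
  rw [mem_centralizer_iff]
  intro y hy
  apply Subtype.ext
  refine (mem_centralizer_iff.mp hx.2) y ?_
  rw [← puigSeq_map_subtype]
  exact ⟨y, hy, rfl⟩

end Cfsg.Agent.Lib.Helper13
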