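import Cfsg.Agent.Lib.Helper13.Puig2
import Cfsg.Agent.S1465
import Cfsg.Agent.Lib.Helper13.StableW3

set_option autoImplicit false
open Cfsg

/-! Puig series of a Sylow subgroup versus that of `O_p(G)` (odd order). -/

namespace Cfsg.Agent.Lib.Helper13

open Subgroup

variable {G : Type*} [Group G] [Finite G]

theorem pSeqIn_compare [Group.IsSolvable G] (hodd : Odd (Nat.card G)) (p : ℕ) [Fact p.Prime] (hp : p ≠ 2)
    (hO : pPrimeCore p G = ⊥) (S : Sylow p G) (n : ℕ) :
    pSeqIn (S : Subgroup G) (2 * n) ≤ pSeqIn (pCore p G) (2 * n) ∧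
      pSeqIn (pCore p G) (2 * n + 1) ≤ pSeqIn (S : Subgroup G) (2 * n + 1) := by
  have hTS : pCore p G ≤ (S : Subgroup G) := pCore_le_sylow S
  have hTp : IsPGroup p (pCore p G) := Cfsg.H1.pCore_isPGroup p
  haveI : Group.IsNilpotent (pCore p G) := hTp.isNilpotent
  have step1 : ∀ n, pSeqIn (S : Subgroup G) (2 * n) ≤ pSeqIn (pCore p G) (2 * n) →
      pSeqIn (pCore p G) (2 * n + 1) ≤ pSeqIn (S : Subgroup G) (2 * n + 1) := by
    intro n ih
    refine sSup_le ?_
    rintro A ⟨h1, h2, h3⟩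
    exact le_pStepIn (h1.trans hTS) h2 (ih.trans h3)
  have step2 : ∀ n, pSeqIn (S : Subgroup G) (2 * n) ≤ pSeqIn (pCore p G) (2 * n) := by
    intro n
    induction n with
    | zero => exact bot_le
    | succ n ih =>
      have h1 := step1 n ih
      change pStepIn (S : Subgroup G) (pSeqIn (S : Subgroup G) (2 * n + 1)) ≤
        pStepIn (pCore p G) (pSeqIn (pCore p G) (2 * n + 1))
      refine sSup_le ?_
      rintro A ⟨hA1, hA2, hA3⟩
      haveI : (pSeqIn (pCore p G) (2 * n + 1)).Normal := pSeqIn_normal _ _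
      have hP : IsPGroup p (pSeqIn (pCore p G) (2 * n + 1)) := hTp.to_le (pSeqIn_le _ _)
      have h2 := (Cfsg.Agent.S1465.result hodd p hp (pSeqIn (pCore p G) (2 * n + 1)) hP {A}
        (by
          intro B hB
          rw [Set.mem_singleton_iff] at hB
          subst hB
          exact ⟨hA2, S.2.to_le hA1, h1.trans hA3⟩)).2 hO (centralizer_pSeqIn_le _ _)
      rw [sSup_singleton] at h2
      exact le_pStepIn h2 hA2 (h1.trans hA3)
  exact ⟨step2 n, step1 n (step2 n)⟩

end Cfsg.Agent.Lib.Helper13
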