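import Cfsg.Agent.Lib.Helper16.ResOf
import Cfsg.Agent.Lib.Helper16.MinOver
import Cfsg.Agent.Lib.Helper16.Cores

set_option autoImplicit false
open Cfsg
open scoped commutatorElement

namespace Cfsg.Agent.Lib.Helper13.TwoConj

open Cfsg.Agent.Lib.Helper16

variable {G : Type*} [Group G] {p : ℕ}

theorem le_normalizer_of_forall' {L W : Subgroup G} (h : ∀ l ∈ L, ∀ w ∈ W, l * w * l⁻¹ ∈ W) :
    L ≤ Subgroup.normalizer (W : Set G) := by
  intro l hl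
  rw [Subgroup.mem_normalizer_iff]
  intro w
  refine ⟨h l hl w, fun hw => ?_⟩
  have := h l⁻¹ (L.inv_mem hl) _ hw
  simpa [mul_assoc] using this

/-- Sylow conjugation by an element of `O^p(L)`. -/
theorem sylconj [Finite G] [Fact p.Prime] (L T T' : Subgroup G) (hT : T ≤ L) (hT' : T' ≤ L)
    (hpT : IsPGroup p T) (hpT' : IsPGroup p T')
    (hmax : ∀ P : Subgroup G, P ≤ L → IsPGroup p P → T ≤ P → P ≤ T) :
    ∃ l ∈ (pResidual p ↥L).map L.subtype, T' ≤ T.map (MulAut.conj l).toMonoidHom := by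
  have h1 : IsPGroup p (T.subgroupOf L) := hpT.comap_of_injective L.subtype L.subtype_injective
  have h2 : IsPGroup p (T'.subgroupOf L) := hpT'.comap_of_injective L.subtype L.subtype_injective
  obtain ⟨P₀, hP₀⟩ := h1.exists_le_sylow
  obtain ⟨P₁, hP₁⟩ := h2.exists_le_sylow
  obtain ⟨g, hg⟩ := MulAction.exists_smul_eq (↥L) P₀ P₁
  have hP₀T : ∀ z : ↥L, z ∈ P₀ → (z : G) ∈ T := by
    intro z hz
    have h3 : (P₀ : Subgroup ↥L).map L.subtype ≤ T := by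
      apply hmax _ (Subgroup.map_subtype_le _) (P₀.2.map _)
      intro t ht
      exact ⟨⟨t, hT ht⟩, hP₀ (Subgroup.mem_subgroupOf.2 ht), rfl⟩
    exact h3 ⟨z, hz, rfl⟩
  have htop := pResidual_sup_sylow (p := p) P₀
  have : (pResidual p ↥L).Normal := by
    have := pResidual_characteristic (G := ↥L) (p := p)
    infer_instance
  have hgm : g ∈ pResidual p ↥L ⊔ (P₀ : Subgroup ↥L) := htop ▸ Subgroup.mem_top g
  obtain ⟨r, hr, t, ht, rfl⟩ := Subgroup.mem_sup_of_normal_left.1 hgm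
  refine ⟨(r : G), ⟨r, hr, rfl⟩, ?_⟩
  intro y hy
  have hy1 : (⟨y, hT' hy⟩ : ↥L) ∈ P₁ := hP₁ (Subgroup.mem_subgroupOf.2 hy)
  rw [← hg] at hy1
  have hy2 : (⟨y, hT' hy⟩ : ↥L) ∈ (((r * t) • P₀ : Sylow p ↥L) : Subgroup ↥L) := hy1
  rw [Sylow.coe_subgroup_smul, Subgroup.mem_pointwise_smul_iff_inv_smul_mem] at hy2
  have hy3 : (r * t)⁻¹ * (⟨y, hT' hy⟩ : ↥L) * (r * t) ∈ (P₀ : Subgroup ↥L) := by
    simpa [MulAut.smul_def, MulAut.conj_apply, mul_assoc] using hy2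
  have hy4 : t * ((r * t)⁻¹ * (⟨y, hT' hy⟩ : ↥L) * (r * t)) * t⁻¹ ∈ (P₀ : Subgroup ↥L) :=
    Subgroup.mul_mem _ (Subgroup.mul_mem _ ht hy3) (Subgroup.inv_mem _ ht)
  have hy5 := hP₀T _ hy4
  refine Subgroup.mem_map.2 ⟨_, hy5, ?_⟩
  simp only [MulEquiv.coe_toMonoidHom, MulAut.conj_apply, Subgroup.coe_mul, Subgroup.coe_inv]
  group

theorem core1 [Finite G] [Fact p.Prime] (Q F A C : Subgroup G) [hQn : Q.Normal] [hFn : F.Normal]
    (hQ : IsPGroup p Q)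
    (hF : ∀ f ∈ F, (∃ k : ℕ, f ^ p ^ k = 1) → f ∈ Q)
    (hA : IsPGroup p A) (hAC : A ≤ C)
    (x₀ : G) (hx₀F : x₀ ∈ F) (hx₀C : x₀ ∈ C)
    (hx₀ : ¬ IsPGroup p ↥(A ⊔ A.map (MulAut.conj x₀).toMonoidHom)) :
    ∃ l ∈ F, l ∈ C ∧ ¬ IsPGroup p ↥(A ⊔ A.map (MulAut.conj l).toMonoidHom) ∧
      l ∈ (pResidual p ↥(A ⊔ A.map (MulAut.conj l).toMonoidHom)).map
        (A ⊔ A.map (MulAut.conj l).toMonoidHom).subtype ∧
      (pResidual p ↥(A ⊔ A.map (MulAut.conj l).toMonoidHom)).map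
        (A ⊔ A.map (MulAut.conj l).toMonoidHom).subtype ≤ F := by
  let S : Set G := {x | x ∈ F ∧ x ∈ C ∧ ¬ IsPGroup p ↥(A ⊔ A.map (MulAut.conj x).toMonoidHom)}
  have hSne : S.Nonempty := ⟨x₀, hx₀F, hx₀C, hx₀⟩
  obtain ⟨x, hxS, hmin⟩ := Set.exists_min_image S
    (fun x => Nat.card ↥(A ⊔ A.map (MulAut.conj x).toMonoidHom)) (Set.toFinite S) hSne
  obtain ⟨hxF, hxC, hxp⟩ := hxS
  obtain ⟨L, hL⟩ : ∃ L, L = A ⊔ A.map (MulAut.conj x).toMonoidHom := ⟨_, rfl⟩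
  simp only [← hL] at hmin
  rw [← hL] at hxp
  have hAL : A ≤ L := hL ▸ le_sup_left
  have hAxL : A.map (MulAut.conj x).toMonoidHom ≤ L := hL ▸ le_sup_right
  have hLC : L ≤ C := by
    rw [hL]; refine sup_le hAC ?_
    rintro _ ⟨a, ha, rfl⟩
    exact C.mul_mem (C.mul_mem hxC (hAC ha)) (C.inv_mem hxC)
  have hLFA : L ≤ F ⊔ A := by
    rw [hL]; refine sup_le le_sup_right ?_
    refine (cj_le_commutator_sup F A hxF).trans (sup_le_sup_right ?_ A)
    exact Subgroup.commutator_le_left F A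
  have hAF : A ≤ Subgroup.normalizer (F : Set G) := by
    rw [Subgroup.normalizer_eq_top]; exact le_top
  have hOpF : (pResidual p ↥L).map L.subtype ≤ F := pResOf_le_of_le_sup' hA hAF hLFA
  have hNn : ∀ g ∈ L, ∀ n ∈ L ⊓ Q, g * n * g⁻¹ ∈ L ⊓ Q := fun g hg n hn =>
    ⟨L.mul_mem (L.mul_mem hg hn.1) (L.inv_mem hg), hQn.conj_mem n hn.2 g⟩
  have hpN : IsPGroup p ↥(L ⊓ Q) := hQ.to_le inf_le_right
  have hpT : IsPGroup p ↥((L ⊓ Q) ⊔ A) :=
    IsPGroup.to_sup_of_normal_left' hpN hA (hAL.trans (le_normalizer_of_forall' hNn))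
  have hmax : ∀ P : Subgroup G, P ≤ L → IsPGroup p P → (L ⊓ Q) ⊔ A ≤ P → P ≤ (L ⊓ Q) ⊔ A := by
    intro P hPL hP hTP y hy
    obtain ⟨f, hf, a, ha, rfl⟩ := Subgroup.mem_sup_of_normal_left.1 (hLFA (hPL hy))
    have haP : a ∈ P := hTP (Subgroup.mem_sup_right ha)
    have hfP : f ∈ P := by
      have := P.mul_mem hy (P.inv_mem haP)
      simpa using this
    have hfQ : f ∈ Q := by
      apply hF f hf
      obtain ⟨k, hk⟩ := hP ⟨f, hfP⟩
      exact ⟨k, congrArg Subtype.val hk⟩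
    exact Subgroup.mul_mem _ (Subgroup.mem_sup_left ⟨hPL hfP, hfQ⟩) (Subgroup.mem_sup_right ha)
  obtain ⟨l, hl, hlT⟩ := sylconj L ((L ⊓ Q) ⊔ A) (A.map (MulAut.conj x).toMonoidHom)
    (sup_le inf_le_left hAL) hAxL hpT (hA.map _) hmax
  have hlL : l ∈ L := pResidual_map_subtype_le L hl
  obtain ⟨L', hL'⟩ : ∃ L', L' = A ⊔ A.map (MulAut.conj l).toMonoidHom := ⟨_, rfl⟩
  have hAL' : A ≤ L' := hL' ▸ le_sup_left
  have hAlL' : A.map (MulAut.conj l).toMonoidHom ≤ L' := hL' ▸ le_sup_right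
  have hL'L : L' ≤ L := by
    rw [hL']; refine sup_le hAL ?_
    rintro _ ⟨a, ha, rfl⟩
    exact L.mul_mem (L.mul_mem hlL (hAL ha)) (L.inv_mem hlL)
  have hLL' : L ≤ L' ⊔ (L ⊓ Q) := by
    conv_lhs => rw [hL]
    refine sup_le (hAL'.trans le_sup_left) (hlT.trans ?_)
    rw [Subgroup.map_sup]
    refine sup_le ?_ (hAlL'.trans le_sup_left)
    rintro _ ⟨n, hn, rfl⟩
    exact Subgroup.mem_sup_right (hNn l hlL n hn)
  have hL'p : ¬ IsPGroup p L' := by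
    intro h
    apply hxp
    exact (IsPGroup.to_sup_of_normal_right' h hpN
      (hL'L.trans (le_normalizer_of_forall' hNn))).to_le hLL'
  have hlS : l ∈ S := ⟨hOpF hl, hLC hlL, hL' ▸ hL'p⟩
  have hcard := hmin l hlS
  have hEq : L' = L := Subgroup.eq_of_le_of_card_ge hL'L (by rw [hL']; exact hcard)
  refine ⟨l, hOpF hl, hLC hlL, ?_⟩
  rw [← hL', hEq]
  exact ⟨hxp, hl, hOpF⟩

theorem core2 [Finite G] [Fact p.Prime] (Q A B C L : Subgroup G) [hQn : Q.Normal]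
    (hQ : IsPGroup p Q) (hA : IsPGroup p A) (hBA : B ≤ A) (hidx : B.relIndex A = p)
    (hBC : ⁅B, C⁆ ≤ Q) (l : G) (hL : L = A ⊔ A.map (MulAut.conj l).toMonoidHom)
    (hl : l ∈ (pResidual p ↥L).map L.subtype) (hLp : ¬ IsPGroup p L) (hLC : L ≤ C) :
    ⁅(pResidual p ↥L).map L.subtype, A⁆ = (pResidual p ↥L).map L.subtype ∧
    (A ⊓ (pCore p ↥L).map L.subtype).relIndex A = p ∧
    ⁅A ⊓ (pCore p ↥L).map L.subtype, L⁆ ≤ Q := by
  have hAL : A ≤ L := hL ▸ le_sup_left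
  have hlL : l ∈ L := pResidual_map_subtype_le L hl
  have h3 : ⁅(pResidual p ↥L).map L.subtype, A⁆ = (pResidual p ↥L).map L.subtype := by
    apply le_antisymm
    · exact commutator_le_left_of_le_normalizer (hAL.trans (le_normalizer_pResOf L))
    · apply pResOf_le_of_le_sup' hA (le_normalizer_commutator_right _ _)
      conv_lhs => rw [hL]
      exact sup_le le_sup_right (cj_le_commutator_sup _ A hl)
  -- `B ≤ O_p(L)`
  have hBO : B ≤ (pCore p ↥L).map L.subtype := by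
    have hpBQ : IsPGroup p ↥(B ⊔ Q) := IsPGroup.to_sup_of_normal_right (hA.to_le hBA) hQ
    have h1 : L ⊓ (B ⊔ Q) ≤ pCoreOf p L := by
      apply le_pCoreOf inf_le_left _ (hpBQ.to_le inf_le_right)
      apply le_normalizer_of_forall'
      rintro g hg n ⟨hnL, hnBQ⟩
      refine ⟨L.mul_mem (L.mul_mem hg hnL) (L.inv_mem hg), ?_⟩
      obtain ⟨b, hb, q, hq, rfl⟩ := Subgroup.mem_sup_of_normal_right.1 hnBQ
      have e : g * (b * q) * g⁻¹ = (⁅b, g⁆)⁻¹ * b * (g * q * g⁻¹) := by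
        simp only [commutatorElement_def]; group
      rw [e]
      exact Subgroup.mul_mem _ (Subgroup.mul_mem _ (Subgroup.mem_sup_right
        (Q.inv_mem (hBC (Subgroup.commutator_mem_commutator hb (hLC hg)))))
        (Subgroup.mem_sup_left hb)) (Subgroup.mem_sup_right (hQn.conj_mem q hq g))
    exact (le_inf (hBA.trans hAL) le_sup_left).trans h1
  obtain ⟨O, hO⟩ : ∃ O, O = (pCore p ↥L).map L.subtype := ⟨_, rfl⟩
  rw [← hO] at hBO ⊢
  have hOp : IsPGroup p O := by rw [hO]; exact pCoreOf_isPGroup L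
  have hOn : L ≤ Subgroup.normalizer (O : Set G) := by rw [hO]; exact le_normalizer_pCoreOf L
  have hmul := Subgroup.relIndex_mul_relIndex B (A ⊓ O) A (le_inf hBA hBO) inf_le_left
  rw [hidx] at hmul
  have hne1 : (A ⊓ O).relIndex A ≠ 1 := by
    intro h
    rw [Subgroup.relIndex_eq_one] at h
    have hAO : A ≤ O := h.trans inf_le_right
    apply hLp
    apply hOp.to_le
    rw [hL]
    refine sup_le hAO ?_
    rintro _ ⟨a, ha, rfl⟩
    exact (Subgroup.mem_normalizer_iff.1 (hOn hlL) a).1 (hAO ha)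
  have hpp : p.Prime := Fact.out
  have hdv : (A ⊓ O).relIndex A ∣ p := Dvd.intro_left _ hmul
  have h4 : (A ⊓ O).relIndex A = p := ((Nat.dvd_prime hpp).1 hdv).resolve_left hne1
  refine ⟨h3, h4, ?_⟩
  rw [h4] at hmul
  have h5 : B.relIndex (A ⊓ O) = 1 := by
    have : B.relIndex (A ⊓ O) * p = 1 * p := by rw [hmul, one_mul]
    exact Nat.eq_of_mul_eq_mul_right hpp.pos this
  rw [Subgroup.relIndex_eq_one] at h5
  exact (Subgroup.commutator_mono h5 hLC).trans hBC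

end Cfsg.Agent.Lib.Helper13.TwoConj
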